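import Cfsg.Agent.Lib.Linear.SympSimple
import Cfsg.Agent.Lib.Linear.SympCard

/-!
The unipotent radical of a point stabiliser of `Sp_{2m}` inside the group: the elements `sx u w z`,
the standard hyperbolic pair, the Levi elements and duality for finite abelian groups.
-/

set_option autoImplicit false
set_option linter.unusedSectionVars false

namespace CfsgLib.MinIndexPSp

open Matrix Cfsg CfsgLib.Linear.Symp

variable {F : Type*} [Field F] {m : ℕ}

/-- For `f(w,u) = 0`, the element `v ↦ v + f(v,u) w + f(v,w) u + z f(v,u) u`. -/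
def sx (u w : Fin m ⊕ Fin m → F) (z : F) : symplecticGroup (Fin m) F :=
  tv (u + w) 1 * tv u (z - 1) * tv w (-1)

theorem sx_conj (g : symplecticGroup (Fin m) F) (u w : Fin m ⊕ Fin m → F) (z : F) :
    g * sx u w z * g⁻¹ = sx (g • u) (g • w) z := by
  simp only [sx, ← smul_add, ← tv_conj]
  group

theorem sx_smul {u w : Fin m ⊕ Fin m → F} (h : sympForm m F w u = 0) (z : F)
    (v : Fin m ⊕ Fin m → F) :
    sx u w z • v = v + sympForm m F v u • w + (sympForm m F v w + z * sympForm m F v u) • u := by
  have h' : sympForm m F u w = 0 := by rw [form_swap, h, neg_zero]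
  simp only [sx, mul_smul, tv_smul, form_add_left, form_add_right, form_smul_left, form_self, h, h',
    mul_zero, add_zero, zero_add]
  module

theorem sx_zero (u : Fin m ⊕ Fin m → F) (z : F) : sx u 0 z = tv u z := by
  refine group_ext fun v => ?_
  rw [sx_smul (form_zero_left _), tv_smul, form_zero_right, smul_zero, add_zero, zero_add]

theorem sx_mul {u a b : Fin m ⊕ Fin m → F} (ha : sympForm m F a u = 0)
    (hb : sympForm m F b u = 0) (y z : F) :
    sx u a y * sx u b z = sx u (a + b) (y + z + sympForm m F b a) := by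
  have hua : sympForm m F u a = 0 := by rw [form_swap, ha, neg_zero]
  refine group_ext fun v => ?_
  rw [mul_smul, sx_smul hb, sx_smul ha, sx_smul (by rw [form_add_left, ha, hb, add_zero])]
  simp only [form_add_left, form_add_right, form_smul_left, form_self, hb, hua, mul_zero, add_zero]
  module

theorem sx_smul_vec (l : F) {u w : Fin m ⊕ Fin m → F} (h : sympForm m F w u = 0) (z : F) :
    sx (l • u) w z = sx u (l • w) (l ^ 2 * z) := by
  refine group_ext fun v => ?_
  rw [sx_smul (by rw [form_smul_right, h, mul_zero]), sx_smul (by rw [form_smul_left, h, mul_zero])]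
  simp only [form_smul_right]
  module

/-- In characteristic two a product of opposite elements splits into transvections. -/
theorem sx_mul_sx_swap (h2 : (2 : F) = 0) {u w : Fin m ⊕ Fin m → F} (h : sympForm m F w u = 0)
    (y z : F) : sx u w y * sx w u z = tv u y * tv w z := by
  have h' : sympForm m F u w = 0 := by rw [form_swap, h, neg_zero]
  refine group_ext fun v => ?_
  rw [mul_smul, mul_smul, sx_smul h', sx_smul h, tv_smul, tv_smul]
  simp only [form_add_left, form_smul_left, form_self, h, h', mul_zero, add_zero]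
  have hn : ∀ x : F, -x = x := fun x => by linear_combination (-x) * h2
  match_scalars <;> ring_nf <;> simp [h2, hn]

section Dual

variable {M : Type*} [AddCommGroup M] (P : M → AddChar M ℂ)
  (hadd : ∀ x y, P (x + y) = P x * P y)

include hadd in
theorem dual_zero : P 0 = 1 := by
  have h := hadd 0 0
  rw [add_zero] at h
  refine DFunLike.ext _ _ fun r => ?_
  have h' := DFunLike.congr_fun h r
  rw [AddChar.mul_apply] at h'
  exact (mul_eq_left₀ ((P 0).val_isUnit r).ne_zero).1 h'.symm

/-- The annihilator of a subgroup under a pairing. -/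
def dualAnn (R : AddSubgroup M) : AddSubgroup M where
  carrier := {y | ∀ r ∈ R, P y r = 1}
  add_mem' {a b} ha hb r hr := by rw [hadd, AddChar.mul_apply, ha r hr, hb r hr, one_mul]
  zero_mem' r _ := by rw [dual_zero P hadd, AddChar.one_apply]
  neg_mem' {a} ha r hr := by
    have h := DFunLike.congr_fun (hadd a (-a)) r
    rw [add_neg_cancel, dual_zero P hadd, AddChar.one_apply, AddChar.mul_apply, ha r hr, one_mul] at h
    exact h.symm

theorem mem_dualAnn {R : AddSubgroup M} {y : M} :
    y ∈ dualAnn P hadd R ↔ ∀ r ∈ R, P y r = 1 := Iff.rfl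

variable [Finite M] (hinj : Function.Injective P)

include hinj in
theorem card_dualAnn (R : AddSubgroup M) : Nat.card (dualAnn P hadd R) = Nat.card (M ⧸ R) := by
  classical
  have : Fintype M := Fintype.ofFinite _
  have hbij : Function.Bijective P :=
    (Fintype.bijective_iff_injective_and_card _).2 ⟨hinj, AddChar.card_eq.symm⟩
  let π := QuotientAddGroup.mk' R
  let T : dualAnn P hadd R → AddChar (M ⧸ R) ℂ := fun y =>
    { toFun := Quotient.lift (fun r => P y.1 r) (by
        intro a b hab
        have hab' : -a + b ∈ R := QuotientAddGroup.leftRel_apply.1 hab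
        have h1 := y.2 _ hab'
        show P y.1 a = P y.1 b
        calc P y.1 a = P y.1 a * P y.1 (-a + b) := by rw [h1, mul_one]
          _ = P y.1 b := by rw [← AddChar.map_add_eq_mul, add_neg_cancel_left])
      map_zero_eq_one' := AddChar.map_zero_eq_one _
      map_add_eq_mul' := by
        intro a b
        induction a using QuotientAddGroup.induction_on with
        | _ a =>
          induction b using QuotientAddGroup.induction_on with
          | _ b => exact AddChar.map_add_eq_mul (P y.1) a b }
  have hT : Function.Bijective T := by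
    constructor
    · intro y z h
      exact Subtype.ext (hinj (DFunLike.ext _ _ fun r => DFunLike.congr_fun h (π r)))
    · intro c
      obtain ⟨y, hy⟩ := hbij.2 (c.compAddMonoidHom π)
      have hy' : ∀ r, P y r = c (π r) := fun r => DFunLike.congr_fun hy r
      refine ⟨⟨y, fun r hr => ?_⟩, DFunLike.ext _ _ fun x => ?_⟩
      · rw [hy', show π r = 0 from (QuotientAddGroup.eq_zero_iff r).2 hr, AddChar.map_zero_eq_one]
      · induction x using QuotientAddGroup.induction_on with
        | _ r => exact hy' r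
  rw [Nat.card_congr (Equiv.ofBijective T hT)]
  have : Fintype (M ⧸ R) := Fintype.ofFinite _
  rw [Nat.card_eq_fintype_card, Nat.card_eq_fintype_card]
  exact AddChar.card_eq

include hinj in
theorem mem_of_forall_dualAnn (R : AddSubgroup M) {r : M}
    (h : ∀ y ∈ dualAnn P hadd R, P y r = 1) : r ∈ R := by
  by_contra hr
  have hle : R ≤ R ⊔ AddSubgroup.closure {r} := le_sup_left
  have hlt : R < R ⊔ AddSubgroup.closure {r} := lt_of_le_of_ne hle fun e =>
    hr (e ▸ (le_sup_right : AddSubgroup.closure {r} ≤ _) (AddSubgroup.mem_closure_singleton_self r))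
  have hann : dualAnn P hadd R ≤ dualAnn P hadd (R ⊔ AddSubgroup.closure {r}) := by
    intro y hy s hs
    let K : AddSubgroup M :=
      { carrier := {s | P y s = 1}
        add_mem' := fun {a b} ha hb => by
          show P y (a + b) = 1
          rw [AddChar.map_add_eq_mul, show P y a = 1 from ha, show P y b = 1 from hb, one_mul]
        zero_mem' := AddChar.map_zero_eq_one _
        neg_mem' := fun {a} ha => by
          show P y (-a) = 1
          rw [AddChar.map_neg_eq_inv, show P y a = 1 from ha, inv_one] }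
    have : R ⊔ AddSubgroup.closure {r} ≤ K :=
      sup_le (fun s hs => hy s hs) ((AddSubgroup.closure_le _).2
        (Set.singleton_subset_iff.2 (show P y r = 1 from h y hy)))
    exact this hs
  have h1 := AddSubgroup.card_le_of_le hann
  rw [card_dualAnn P hadd hinj, card_dualAnn P hadd hinj] at h1
  have h2 := AddSubgroup.index_strictAnti hlt
  rw [AddSubgroup.index_eq_card, AddSubgroup.index_eq_card] at h2
  omega

end Dual

section Standard

variable [NeZero m]

/-- The first vector of the standard hyperbolic pair. -/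
def ev (m : ℕ) [NeZero m] (F : Type*) [Field F] : Fin m ⊕ Fin m → F := Pi.single (.inr 0) 1

/-- The second vector of the standard hyperbolic pair. -/
def ev' (m : ℕ) [NeZero m] (F : Type*) [Field F] : Fin m ⊕ Fin m → F := Pi.single (.inl 0) 1

theorem form_ev_ev' : sympForm m F (ev m F) (ev' m F) = 1 := by simp [ev, ev', form_single_inl]

theorem form_ev'_ev : sympForm m F (ev' m F) (ev m F) = -1 := by rw [form_swap, form_ev_ev']

theorem ev_ne_zero : ev m F ≠ 0 := fun h => by simpa [ev] using congrFun h (.inr 0)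

theorem ev'_ne_zero : ev' m F ≠ 0 := fun h => by simpa [ev'] using congrFun h (.inl 0)

/-- The perpendicular space of the standard hyperbolic pair. -/
abbrev Wsp (m : ℕ) [NeZero m] (F : Type*) [Field F] : Submodule F (Fin m ⊕ Fin m → F) := perpW ({0} : Finset (Fin m)) F

theorem mem_Wsp {x : Fin m ⊕ Fin m → F} :
    x ∈ Wsp m F ↔ sympForm m F x (ev m F) = 0 ∧ sympForm m F x (ev' m F) = 0 := by
  simp only [ev, ev', form_single_inl, form_single_inr, neg_eq_zero]
  exact ⟨fun h => h 0 (Finset.mem_singleton_self 0),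
    fun h j hj => by obtain rfl := Finset.mem_singleton.1 hj; exact h⟩

theorem form_W_ev (a : Wsp m F) : sympForm m F a.1 (ev m F) = 0 := (mem_Wsp.1 a.2).1

theorem form_W_ev' (a : Wsp m F) : sympForm m F a.1 (ev' m F) = 0 := (mem_Wsp.1 a.2).2

theorem form_ev_W (a : Wsp m F) : sympForm m F (ev m F) a.1 = 0 := by
  rw [form_swap, form_W_ev, neg_zero]

theorem form_ev'_W (a : Wsp m F) : sympForm m F (ev' m F) a.1 = 0 := by
  rw [form_swap, form_W_ev', neg_zero]

/-- The projection to the perpendicular space of the standard hyperbolic pair. -/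
def wproj (v : Fin m ⊕ Fin m → F) : Wsp m F :=
  ⟨v - sympForm m F v (ev' m F) • ev m F + sympForm m F v (ev m F) • ev' m F, mem_Wsp.2
    ⟨by simp [form_add_left, form_sub_left, form_smul_left, form_self, form_ev'_ev],
     by simp [form_add_left, form_sub_left, form_smul_left, form_self, form_ev_ev']⟩⟩

theorem decomp (v : Fin m ⊕ Fin m → F) :
    v = sympForm m F v (ev' m F) • ev m F - sympForm m F v (ev m F) • ev' m F + (wproj v).1 := by
  simp only [wproj]
  abel

theorem exists_form_W_eq {a : Wsp m F} (ha : a ≠ 0) (c : F) :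
    ∃ b : Wsp m F, sympForm m F a.1 b.1 = c := by
  obtain ⟨w, hw, hw0⟩ := exists_form_ne_zero_inW (fun h => ha (Subtype.ext h)) a.2
  exact ⟨⟨(c / sympForm m F a.1 w) • w, inW_smul hw _⟩, by
    rw [form_smul_right, div_mul_cancel₀ _ hw0]⟩

theorem eq_zero_of_forall_form_W {a : Wsp m F} (h : ∀ b : Wsp m F, sympForm m F a.1 b.1 = 0) :
    a = 0 := by
  by_contra ha
  obtain ⟨b, hb⟩ := exists_form_W_eq ha (1 : F)
  exact one_ne_zero (hb.symm.trans (h b))

theorem card_Wsp [Finite F] : Nat.card (Wsp m F) = Nat.card F ^ (2 * (m - 1)) := by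
  have : Fintype F := Fintype.ofFinite F
  rw [card_perpW, Finset.card_singleton, Nat.card_eq_fintype_card]

/-- `g` scales the standard hyperbolic pair by `l` and `l⁻¹`. -/
def Lev (g : symplecticGroup (Fin m) F) (l : F) : Prop :=
  g • ev m F = l • ev m F ∧ g • ev' m F = l⁻¹ • ev' m F

theorem Lev.ne_zero {g : symplecticGroup (Fin m) F} {l : F} (h : Lev g l) : l ≠ 0 := fun h0 =>
  (smul_ne_zero_iff_ne g).2 ev_ne_zero (by rw [h.1, h0, zero_smul])

theorem Lev.mul {g g' : symplecticGroup (Fin m) F} {l l' : F} (h : Lev g l) (h' : Lev g' l') :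
    Lev (g * g') (l * l') :=
  ⟨by rw [mul_smul, h'.1, smul_comm, h.1, smul_smul, mul_comm],
   by rw [mul_smul, h'.2, smul_comm, h.2, smul_smul, _root_.mul_inv_rev]⟩

theorem Lev.one : Lev (1 : symplecticGroup (Fin m) F) 1 :=
  ⟨by rw [one_smul, one_smul], by rw [one_smul, inv_one, one_smul]⟩

theorem Lev.inv {g : symplecticGroup (Fin m) F} {l : F} (h : Lev g l) : Lev g⁻¹ l⁻¹ := by
  refine ⟨?_, ?_⟩ <;> rw [inv_smul_eq_iff]
  · rw [smul_comm, h.1, smul_smul, inv_mul_cancel₀ h.ne_zero, one_smul]
  · rw [inv_inv, smul_comm, h.2, smul_smul, mul_inv_cancel₀ h.ne_zero, one_smul]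

theorem Lev.smul_mem {g : symplecticGroup (Fin m) F} {l : F} (h : Lev g l)
    {a : Fin m ⊕ Fin m → F} (ha : a ∈ Wsp m F) : g • a ∈ Wsp m F := by
  have hl := h.ne_zero
  obtain ⟨h1, h2⟩ := mem_Wsp.1 ha
  rw [mem_Wsp]
  constructor
  · have := form_smul_smul g a (ev m F)
    rw [h.1, form_smul_right, h1] at this
    exact (mul_eq_zero.1 this).resolve_left hl
  · have := form_smul_smul g a (ev' m F)
    rw [h.2, form_smul_right, h2] at this
    exact (mul_eq_zero.1 this).resolve_left (inv_ne_zero hl)

/-- The action of a Levi element on the perpendicular space. -/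
def Lev.act {g : symplecticGroup (Fin m) F} {l : F} (h : Lev g l) (a : Wsp m F) : Wsp m F :=
  ⟨g • a.1, h.smul_mem a.2⟩

theorem Lev.act_coe {g : symplecticGroup (Fin m) F} {l : F} (h : Lev g l) (a : Wsp m F) :
    (h.act a).1 = g • a.1 := rfl

theorem fix_of_perp {S : Finset (Fin m)} {g : symplecticGroup (Fin m) F}
    (hg : g ∈ transvectionSubgroupW S F) {x : Fin m ⊕ Fin m → F}
    (hx : ∀ w, InW S w → sympForm m F x w = 0) : g • x = x := by
  suffices transvectionSubgroupW S F ≤ MulAction.stabilizer (symplecticGroup (Fin m) F) x from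
    this hg
  refine (Subgroup.closure_le _).2 ?_
  rintro _ ⟨w, c, hw, rfl⟩
  rw [SetLike.mem_coe, MulAction.mem_stabilizer_iff, tv_smul, hx w hw, mul_zero, zero_smul,
    add_zero]

theorem lev_of_mem {g : symplecticGroup (Fin m) F}
    (hg : g ∈ transvectionSubgroupW ({0} : Finset (Fin m)) F) : Lev g 1 := by
  obtain ⟨h1, h2⟩ := transvectionSubgroupW_fix hg (Finset.mem_singleton_self 0)
  exact ⟨by rw [one_smul]; exact h2, by rw [inv_one, one_smul]; exact h1⟩

theorem exists_lev_smul_eq {a b : Wsp m F} (ha : a ≠ 0) (hb : b ≠ 0) :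
    ∃ g : symplecticGroup (Fin m) F, Lev g 1 ∧ g • a.1 = b.1 := by
  obtain ⟨g, hg, h⟩ := exists_smul_eq_inW a.2 b.2 (fun h => ha (Subtype.ext h))
    (fun h => hb (Subtype.ext h))
  exact ⟨g, lev_of_mem hg, h⟩

theorem exists_torus {l : F} (hl : l ≠ 0) :
    ∃ g : symplecticGroup (Fin m) F, Lev g l ∧ ∀ a ∈ Wsp m F, g • a = a := by
  have he : InW ((Finset.univ : Finset (Fin m)).erase 0) (ev m F) :=
    fun j hj => by simp [ev, (Finset.mem_erase.1 hj).1]
  have he' : InW ((Finset.univ : Finset (Fin m)).erase 0) (ev' m F) :=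
    fun j hj => by simp [ev', (Finset.mem_erase.1 hj).1]
  obtain ⟨g, hg, h1, h2⟩ := exists_smul_pair_inW he he' (inW_smul he l) (inW_smul he' l⁻¹)
    form_ev_ev' (by rw [form_smul_left, form_smul_right, form_ev_ev', mul_one, mul_inv_cancel₀ hl])
  refine ⟨g, ⟨h1, h2⟩, fun a ha => fix_of_perp hg fun w hw => ?_⟩
  rw [sympForm_eq_sum]
  refine Finset.sum_eq_zero fun i _ => ?_
  rcases eq_or_ne i 0 with rfl | hi
  · simp [(ha 0 (Finset.mem_singleton_self 0)).1, (ha 0 (Finset.mem_singleton_self 0)).2]
  · simp [(hw i (Finset.mem_erase.2 ⟨hi, Finset.mem_univ i⟩)).1,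
      (hw i (Finset.mem_erase.2 ⟨hi, Finset.mem_univ i⟩)).2]

theorem torus_commute {t g : symplecticGroup (Fin m) F} {l l' : F} (ht : Lev t l)
    (htW : ∀ a ∈ Wsp m F, t • a = a) (hg : Lev g l') : t * g = g * t := by
  refine group_ext fun v => ?_
  rw [mul_smul, mul_smul, decomp v]
  simp only [smul_add, smul_sub, smul_comm t (_ : F), smul_comm g (_ : F), hg.1, hg.2, ht.1, ht.2,
    htW _ (wproj v).2, htW _ (hg.smul_mem (wproj v).2), smul_smul]
  congr 2 <;> ring_nf

/-- The element of the unipotent radical with parameters `(a, z)`. -/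
def xe (a : Wsp m F) (z : F) : symplecticGroup (Fin m) F := sx (ev m F) a.1 z

theorem xe_mul (a b : Wsp m F) (y z : F) :
    xe a y * xe b z = xe (a + b) (y + z + sympForm m F b.1 a.1) :=
  sx_mul (form_W_ev a) (form_W_ev b) y z

theorem xe_zero (z : F) : xe (0 : Wsp m F) z = tv (ev m F) z := sx_zero _ z

theorem xe_one : xe (0 : Wsp m F) (0 : F) = 1 := by rw [xe_zero, tv_zero]

theorem xe_inv (a : Wsp m F) (z : F) : (xe a z)⁻¹ = xe (-a) (-z) := by
  refine inv_eq_of_mul_eq_one_right ?_
  rw [xe_mul, add_neg_cancel, ← xe_one]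
  congr 1
  simp [form_neg_left, form_self]

theorem lev_conj_xe {g : symplecticGroup (Fin m) F} {l : F} (h : Lev g l) (a : Wsp m F) (z : F) :
    g * xe a z * g⁻¹ = xe (l • h.act a) (l ^ 2 * z) := by
  rw [xe, sx_conj, h.1, sx_smul_vec l (mem_Wsp.1 (h.smul_mem a.2)).1]
  rfl

theorem lev_mul_xe {g : symplecticGroup (Fin m) F} {l : F} (h : Lev g l) (a : Wsp m F) (z : F) :
    g * xe a z = xe (l • h.act a) (l ^ 2 * z) * g := by
  rw [← lev_conj_xe h, inv_mul_cancel_right]

theorem xe_smul (a : Wsp m F) (z : F) (v : Fin m ⊕ Fin m → F) :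
    xe a z • v = v + sympForm m F v (ev m F) • a.1 +
      (sympForm m F v a.1 + z * sympForm m F v (ev m F)) • ev m F := sx_smul (form_W_ev a) z v

end Standard

end CfsgLib.MinIndexPSp
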