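import Cfsg.Agent.Lib.MinIndexPSp.Fam

/-!
The shape of a moved point with nonzero annihilator in an action of small degree.
-/

set_option autoImplicit false
set_option linter.unusedSectionVars false

namespace CfsgLib.MinIndexPSp

open Matrix Cfsg CfsgLib.Linear.Symp

variable {F : Type*} [Field F] {m : ℕ} [NeZero m] [Finite F]
variable {Ω : Type*} [MulAction (symplecticGroup (Fin m) F) Ω] [Finite Ω]
variable (χ : AddChar F ℂ) (hχ : χ ≠ 1)

theorem card_quot_mul (ω : Ω) :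
    Nat.card (F ⧸ Z0 m F ω) * Nat.card (Z0 m F ω) = Nat.card F := by
  rw [← AddSubgroup.index_eq_card, mul_comm, AddSubgroup.card_mul_index]

theorem three_le_card_Z0 (h2 : (2 : F) ≠ 0) (ω : Ω) (h : Z0 m F ω ≠ ⊥) :
    3 ≤ Nat.card (Z0 m F ω) := by
  obtain ⟨z, hz, hz0⟩ : ∃ z ∈ Z0 m F ω, z ≠ 0 := by
    by_contra hcon
    push Not at hcon
    exact h ((AddSubgroup.eq_bot_iff_forall _).2 hcon)
  have hne : z ≠ -z := fun e => hz0 ((mul_eq_zero.1
    (show (2 : F) * z = 0 by linear_combination e)).resolve_left h2)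
  classical
  have : Fintype (Z0 m F ω) := Fintype.ofFinite _
  rw [Nat.card_eq_fintype_card]
  refine Finset.card_le_univ ({0, ⟨z, hz⟩, ⟨-z, neg_mem hz⟩} : Finset (Z0 m F ω)) |> le_trans ?_
  rw [Finset.card_eq_three.2 ⟨(0 : Z0 m F ω), ⟨z, hz⟩, ⟨-z, neg_mem hz⟩, ?_, ?_, ?_, rfl⟩]
  · simpa [Subtype.ext_iff] using hz0.symm
  · simpa [Subtype.ext_iff] using fun e : (0 : F) = -z => hz0 (neg_eq_zero.1 e.symm)
  · simpa [Subtype.ext_iff] using hne

/-- A subgroup invariant under the fixers of each of its nonzero vectors is `W` or lies in a line. -/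
theorem eq_top_or_line (A : AddSubgroup (Wsp m F)) {v : Wsp m F} (hv : v ≠ 0) (hvA : v ∈ A)
    (hinv : ∀ (y z : Wsp m F) (u : Wsp m F) (c : F), y ≠ 0 → y ∈ A → z ∈ A →
      sympForm m F y.1 u.1 = 0 → (c * sympForm m F z.1 u.1) • u ∈ A) :
    A = ⊤ ∨ ∀ z ∈ A, ∃ c : F, z = c • v := by
  by_cases hline : ∀ z ∈ A, ∃ c : F, z = c • v
  · exact Or.inr hline
  left
  push Not at hline
  obtain ⟨z, hzA, hz⟩ := hline
  have hz0 : z ≠ 0 := fun e => hz 0 (by rw [e, zero_smul])
  have sep : ∀ {p r : Wsp m F}, p ≠ 0 → (∀ c : F, r ≠ c • p) →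
      ∃ u : Wsp m F, sympForm m F p.1 u.1 = 0 ∧ sympForm m F r.1 u.1 = 1 := by
    intro p r hp hr
    by_contra hcon
    push Not at hcon
    obtain ⟨b, hb⟩ := exists_form_W_eq hp (1 : F)
    refine hr (sympForm m F r.1 b.1) (sub_eq_zero.1 (eq_zero_of_forall_form_W fun x => ?_))
    have hzero : sympForm m F r.1 (x - sympForm m F p.1 x.1 • b : Wsp m F).1 = 0 := by
      by_contra hne
      refine hcon ((sympForm m F r.1 (x - sympForm m F p.1 x.1 • b : Wsp m F).1)⁻¹ •
        (x - sympForm m F p.1 x.1 • b)) ?_ ?_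
      · simp [form_smul_right, form_sub_right, hb]
      · rw [Submodule.coe_smul, form_smul_right, inv_mul_cancel₀ hne]
    rw [Submodule.coe_sub, Submodule.coe_smul, form_sub_right, form_smul_right] at hzero
    rw [Submodule.coe_sub, Submodule.coe_smul, form_sub_left, form_smul_left]
    linear_combination hzero
  have hperp : ∀ {p r : Wsp m F}, p ≠ 0 → p ∈ A → r ∈ A → (∀ c : F, r ≠ c • p) →
      ∀ x : Wsp m F, sympForm m F p.1 x.1 = 0 → x ∈ A := by
    intro p r hp hpA hrA hr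
    have h1 : ∀ x : Wsp m F, sympForm m F p.1 x.1 = 0 → sympForm m F r.1 x.1 ≠ 0 → x ∈ A := by
      intro x hx hne
      have := hinv p r x (sympForm m F r.1 x.1)⁻¹ hp hpA hrA hx
      rwa [inv_mul_cancel₀ hne, one_smul] at this
    intro x hx
    by_cases hne : sympForm m F r.1 x.1 = 0
    · obtain ⟨u, hu, hu'⟩ := sep hp hr
      have h2 := h1 (x + u) (by simp [form_add_right, hx, hu]) (by simp [form_add_right, hne, hu'])
      simpa using sub_mem h2 (h1 u hu (by rw [hu']; exact one_ne_zero))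
    · exact h1 x hx hne
  have hz' : ∀ c : F, v ≠ c • z := by
    intro c e
    have hc : c ≠ 0 := fun h => hv (by rw [e, h, zero_smul])
    exact hz c⁻¹ (by rw [e, smul_smul, inv_mul_cancel₀ hc, one_smul])
  refine eq_top_iff.2 fun x _ => ?_
  obtain ⟨u, hu, hu'⟩ := sep hv hz
  have h1 : sympForm m F z.1 x.1 • u ∈ A := hperp hv hvA hzA hz _ (by simp [form_smul_right, hu])
  have h2 : x - sympForm m F z.1 x.1 • u ∈ A :=
    hperp hz0 hzA hvA hz' _ (by simp [form_sub_right, form_smul_right, hu'])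
  simpa using add_mem h1 h2

theorem arith_partial {q w d : ℕ} (hq : 3 ≤ q) (h : (q + 2) * w ≤ d)
    (hd : d * (q - 1) + 1 < q ^ 2 * w) : False := by
  obtain ⟨s, rfl⟩ : ∃ s, q = s + 3 := ⟨q - 3, by omega⟩
  rw [show s + 3 - 1 = s + 2 by omega] at hd
  nlinarith [Nat.mul_le_mul_right (s + 2) h]

theorem arith_two {q w d : ℕ} (hq : 3 ≤ q) (hw : q ^ 2 ≤ w + 1) (h : q * (2 * w + 1) ≤ d)
    (hd : d * (q - 1) + 1 < q ^ 2 * (w + 1)) : False := by
  obtain ⟨s, rfl⟩ : ∃ s, q = s + 3 := ⟨q - 3, by omega⟩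
  rw [show s + 3 - 1 = s + 2 by omega] at hd
  have h1 : (s + 3) * (s + 1) * ((s + 3) ^ 2) ≤ (s + 3) * (s + 1) * (w + 1) :=
    Nat.mul_le_mul_left _ hw
  nlinarith [Nat.mul_le_mul_right (s + 2) h]

theorem arith_two' {q w d : ℕ} (hq : 3 ≤ q) (hw : q ^ 2 ≤ w + 1)
    (h : (q + 3) * (2 * w + 1) ≤ 2 * d)
    (hd : d * (q - 1) + 1 < q ^ 2 * (w + 1)) : False := by
  obtain ⟨s, rfl⟩ : ∃ s, q = s + 3 := ⟨q - 3, by omega⟩
  rw [show s + 3 - 1 = s + 2 by omega] at hd
  have h1 : (4 * s + 6) * ((s + 3) ^ 2) ≤ (4 * s + 6) * (w + 1) := Nat.mul_le_mul_left _ hw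
  nlinarith [Nat.mul_le_mul_right (s + 2) h]

theorem arith_line {q w d k a : ℕ} (hq : 3 ≤ q) (hw : q ^ 2 ≤ w + 1) (hk : k * a = w)
    (ha : a + 2 ≤ q) (h : q * (w + k) ≤ d) (hd : d * (q - 1) + 1 < q ^ 2 * (w + 1)) : False := by
  obtain ⟨s, rfl⟩ : ∃ s, q = s + 3 := ⟨q - 3, by omega⟩
  rw [show s + 3 - 1 = s + 2 by omega] at hd
  have h1 : w ≤ k * (s + 1) := hk ▸ Nat.mul_le_mul_left _ (by omega)
  have h2 : (s + 3) * (s + 2) * w ≤ (s + 3) * (s + 2) * (k * (s + 1)) := Nat.mul_le_mul_left _ h1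
  have h3 : (s + 3) * (w + k) * (s + 2) * (s + 1) ≤ d * (s + 2) * (s + 1) :=
    Nat.mul_le_mul_right _ (Nat.mul_le_mul_right _ h)
  have h4 : (d * (s + 2) + 2) * (s + 1) ≤ ((s + 3) ^ 2 * (w + 1)) * (s + 1) :=
    Nat.mul_le_mul_right _ hd
  nlinarith

theorem arith_fix {q d k f : ℕ} (hq : 3 ≤ q) (h : k * (q * q) + f ≤ d)
    (hd : d * (q - 1) + 1 < q ^ 2 * (k * (q - 1) + 1)) : f ≤ q := by
  obtain ⟨s, rfl⟩ : ∃ s, q = s + 3 := ⟨q - 3, by omega⟩
  rw [show s + 3 - 1 = s + 2 by omega] at hd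
  by_contra hf
  nlinarith [Nat.mul_le_mul_right (s + 2) h,
    Nat.mul_le_mul_right (s + 2) (show s + 4 ≤ f by omega)]

include hχ in
/-- The dichotomy for a moved point with nonzero annihilator. -/
theorem main_dich (hm : 2 ≤ m) (hq : 3 ≤ Nat.card F)
    (hd : Nat.card Ω * (Nat.card F - 1) + 1 < Nat.card F ^ (2 * m)) (ω : Ω) (hω : Z0 m F ω ≠ ⊤)
    (hA : An m χ ω ≠ ⊥) :
    ((2 : F) = 0 → Z0 m F ω = ⊥) ∧
    (∀ g : symplecticGroup (Fin m) F, IsFam ω g →
      (∃ y, y ≠ 0 ∧ y ∈ An m χ ω ∧ y ∈ An m χ (g • ω)) → g • ω ∈ qo m F ω) ∧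
    (An m χ ω = ⊤ ∨ ∃ v : Wsp m F, v ≠ 0 ∧ (∀ y, y ∈ An m χ ω ↔ ∃ c : F, y = c • v) ∧
      (m = 2 ∨ ((2 : F) = 0 ∧ Nat.card {x : Ω // Z0 m F x = ⊤} ≤ Nat.card F))) := by
  classical
  obtain ⟨k, μ, hk, hμ, hkμ, hN, hstay⟩ := fam_spec χ hχ ω hA
  have hG := card_translates (F := F) (m := m) ω
  have hGb := translates_bound (m := m) χ hχ ω hω
  have hDq := card_quot_mul (F := F) (m := m) ω
  set q := Nat.card F with hqdef
  set a := Nat.card (An m χ ω) with hadef
  set D := Nat.card (F ⧸ Z0 m F ω) with hDdef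
  set G := Nat.card {Z : AddSubgroup F // ∃ (g : symplecticGroup (Fin m) F) (l : F),
    Lev g l ∧ Z0 m F (g • ω) = Z} with hGdef
  set N := (famPts m F ω).card with hNdef
  set d := Nat.card Ω with hddef
  set w := q ^ (2 * (m - 1)) with hwdef
  have hw : q ^ (2 * m) = q ^ 2 * w := by
    rw [hwdef, ← pow_add]; congr 1; omega
  have hw2 : q ^ 2 ≤ w := Nat.pow_le_pow_right (by omega) (by omega)
  rw [hw] at hd
  have ha2 : 2 ≤ a := by
    by_contra hcon
    have h1 : a = 1 := le_antisymm (by omega) (Nat.one_le_iff_ne_zero.2 (Nat.card_pos (α := An m χ ω)).ne')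
    exact hA (AddSubgroup.eq_bot_of_card_eq _ h1)
  obtain ⟨a', ha'⟩ : ∃ a', a = a' + 1 := ⟨a - 1, by omega⟩
  obtain ⟨w', hw'⟩ : ∃ w', w = w' + 1 := ⟨w - 1, (Nat.sub_add_cancel (le_trans (Nat.one_le_pow _ _ (by omega)) hw2)).symm⟩
  obtain ⟨q', hq'⟩ : ∃ q', q = q' + 1 := ⟨q - 1, by omega⟩
  have hkμ' : k * a' = μ * w' := by
    rw [show a' = a - 1 by omega, show w' = w - 1 by omega]; exact hkμ
  have hG1 : 1 ≤ G := by
    rw [hGdef]
    refine Nat.one_le_iff_ne_zero.2 (Nat.card_ne_zero.2 ⟨⟨⟨Z0 m F ω, 1, 1, Lev.one, ?_⟩⟩, Subtype.finite⟩)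
    rw [one_smul]
  have hGN : G * (k * (D * a)) ≤ d := le_trans (Nat.mul_le_mul_left _ hN) hG
  have hD1 : 1 ≤ D := Nat.one_le_iff_ne_zero.2 (Nat.card_pos (α := F ⧸ Z0 m F ω)).ne'
  obtain ⟨D', hD'⟩ : ∃ D', D = D' + 1 := ⟨D - 1, by omega⟩
  have hGb' : q' ≤ (if (2 : F) = 0 then 1 else 2) * (G * D') := by
    rw [show q' = q - 1 by omega, show D' = D - 1 by omega]; exact hGb
  -- the total length of the orbits in the family
  have hka : k * a = μ * w' + k := by rw [ha', mul_add, hkμ', mul_one]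
  have hd1 : G * D * (μ * w' + k) ≤ d := by
    calc G * D * (μ * w' + k) = G * (k * (D * a)) := by rw [← hka]; ring
      _ ≤ d := hGN
  -- partial central stabilisers
  have hpart : Z0 m F ω ≠ ⊥ → 2 ≤ G := by
    intro hbot
    by_contra hcon
    have hG' : G = 1 := by omega
    rw [hG', one_mul] at hGb'
    have h2Z : 2 ≤ Nat.card (Z0 m F ω) := by
      by_contra h
      exact hbot (AddSubgroup.eq_bot_of_card_eq _ (le_antisymm (by omega)
        (Nat.one_le_iff_ne_zero.2 (Nat.card_pos (α := Z0 m F ω)).ne')))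
    split_ifs at hGb' with h2
    · have := Nat.mul_le_mul_left D h2Z
      omega
    · have := Nat.mul_le_mul_left D (three_le_card_Z0 (m := m) h2 ω hbot)
      omega
  have heven : (2 : F) = 0 → Z0 m F ω = ⊥ := by
    intro h2
    by_contra hbot
    have hG2 := hpart hbot
    rw [if_pos h2, one_mul] at hGb'
    -- two translates are too few, three give too long a family
    by_cases hG3 : 3 ≤ G
    · have h1' : q + 2 ≤ G * D := by rw [hD', mul_add, mul_one]; omega
      have h3 : (q + 2) * w ≤ d := by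
        refine le_trans ?_ hd1
        refine Nat.mul_le_mul h1' ?_
        have := Nat.le_mul_of_pos_left w' (show 0 < μ by omega)
        omega
      exact arith_partial hq h3 hd
    · have hG' : G = 2 := by omega
      rw [hG'] at hGb'
      have h2Z : 2 ≤ Nat.card (Z0 m F ω) := by
        by_contra h
        exact hbot (AddSubgroup.eq_bot_of_card_eq _ (le_antisymm (by omega)
          (Nat.one_le_iff_ne_zero.2 (Nat.card_pos (α := Z0 m F ω)).ne')))
      have := Nat.mul_le_mul_left D h2Z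
      omega
  have hμ1 : μ = 1 := by
    by_contra hcon
    have hμ2 : 2 ≤ μ := by omega
    have hlen : 2 * w' + 1 ≤ μ * w' + k :=
      Nat.add_le_add (Nat.mul_le_mul_right _ hμ2) hk
    by_cases hbot : Z0 m F ω = ⊥
    · have hDq' : D = q := by
        rw [hbot] at hDq
        simpa using hDq
      have h3 : q * (2 * w' + 1) ≤ d := by
        refine le_trans ?_ hd1
        refine Nat.mul_le_mul ?_ hlen
        rw [hDq']
        exact Nat.le_mul_of_pos_left q hG1
      exact arith_two hq (hw' ▸ hw2) h3 (hw' ▸ hd)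
    · have hG2 := hpart hbot
      have h2 : (2 : F) ≠ 0 := fun h2 => hbot (heven h2)
      rw [if_neg h2] at hGb'
      have h1 : q + 3 ≤ 2 * (G * D) := by rw [hD', mul_add, mul_one]; omega
      have h3 : (q + 3) * (2 * w' + 1) ≤ 2 * d := by
        calc (q + 3) * (2 * w' + 1) ≤ 2 * (G * D) * (μ * w' + k) := Nat.mul_le_mul h1 hlen
          _ ≤ 2 * d := by rw [mul_assoc]; exact Nat.mul_le_mul_left _ hd1
      exact arith_two' hq (hw' ▸ hw2) h3 (hw' ▸ hd)
  have hstay' := hstay hμ1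
  refine ⟨heven, hstay', ?_⟩
  obtain ⟨v, hvA, hv⟩ : ∃ v ∈ An m χ ω, v ≠ 0 := by
    by_contra hcon
    push Not at hcon
    exact hA ((AddSubgroup.eq_bot_iff_forall _).2 hcon)
  have hinv : ∀ (y z : Wsp m F) (u : Wsp m F) (c : F), y ≠ 0 → y ∈ An m χ ω → z ∈ An m χ ω →
      sympForm m F y.1 u.1 = 0 → (c * sympForm m F z.1 u.1) • u ∈ An m χ ω := by
    intro y z u c hy hyA hzA hyu
    have hL : Lev (tv u.1 c : symplecticGroup (Fin m) F) 1 := lev_of_mem (tv_mem_W u.2 c)
    have hgy : hL.act y = y := Subtype.ext (by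
      rw [Lev.act_coe, tv_smul, hyu, mul_zero, zero_smul, add_zero])
    have hy' : y ∈ An m χ (tv u.1 c • ω) := by
      have := (mem_An_lev χ hL).2 hyA
      rwa [inv_one, one_smul, hgy] at this
    have hz' := (mem_An_lev χ hL).2 hzA
    rw [inv_one, one_smul, An_eq_of_mem χ (hstay' _ (isFam_of_lev hL) ⟨y, hy, hyA, hy'⟩)] at hz'
    have he : (c * sympForm m F z.1 u.1) • u = hL.act z - z := Subtype.ext (by
      rw [Submodule.coe_sub, Lev.act_coe, tv_smul, add_sub_cancel_left, Submodule.coe_smul])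
    rw [he]
    exact sub_mem hz' hzA
  rcases eq_top_or_line _ hv hvA hinv with htop | hline
  · exact Or.inl htop
  right
  refine ⟨v, hv, ?_⟩
  choose c hc using fun y : An m χ ω => hline y.1 y.2
  have hcinj : Function.Injective c := fun x y e => Subtype.ext (by rw [hc x, hc y, e])
  have haq : a ≤ q := Nat.card_le_card_of_injective c hcinj
  have hRA := card_Rb_mul_card_An (m := m) χ hχ ω
  rw [← hadef, ← hqdef, ← hwdef] at hRA
  have hmain : a = q ∧ (m = 2 ∨ (2 : F) = 0) := by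
    by_cases h2 : (2 : F) = 0
    · refine ⟨le_antisymm haq ?_, Or.inr h2⟩
      by_contra hlt
      have hDq' : D = q := by
        rw [heven h2] at hDq
        simpa using hDq
      rw [hμ1, one_mul] at hd1 hkμ'
      have h3 : q * (w' + k) ≤ d := by
        refine le_trans ?_ hd1
        refine Nat.mul_le_mul_right _ ?_
        rw [hDq']
        exact Nat.le_mul_of_pos_left q hG1
      exact arith_line hq (hw' ▸ hw2) hkμ' (by omega) h3 (hw' ▸ hd)
    · have hle := card_Rb_le_card_An (m := m) χ hχ h2 hω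
      rw [← hadef] at hle
      have h1 : w ≤ a * a := hRA ▸ Nat.mul_le_mul_left _ hle
      have hm2 : m = 2 := by
        by_contra hne
        have h4 : q ^ 4 ≤ w := Nat.pow_le_pow_right (by omega) (by omega)
        have h5 : a * a ≤ q * q := Nat.mul_le_mul haq haq
        have h6 : q * q < q ^ 4 := by
          rw [← sq]; exact Nat.pow_lt_pow_right (by omega) (by omega)
        omega
      refine ⟨le_antisymm haq ?_, Or.inl hm2⟩
      by_contra hlt
      have h5 : a * a < q * q := Nat.mul_self_lt_mul_self (by omega)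
      have h6 : q * q ≤ w := by rw [← sq]; exact hw2
      omega
  have hcbij : Function.Bijective c :=
    (Nat.bijective_iff_injective_and_card c).2 ⟨hcinj, hmain.1⟩
  refine ⟨fun y => ⟨fun hy => hline y hy, ?_⟩, ?_⟩
  · rintro ⟨s, rfl⟩
    obtain ⟨x, rfl⟩ := hcbij.2 s
    rw [← hc x]
    exact x.2
  rcases hmain.2 with hm2 | h2
  · exact Or.inl hm2
  refine Or.inr ⟨h2, ?_⟩
  have hDq' : D = q := by
    rw [heven h2] at hDq
    simpa using hDq
  have : Fintype Ω := Fintype.ofFinite _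
  have hsum : N + Nat.card {x : Ω // Z0 m F x = ⊤} ≤ d := by
    rw [hNdef, Nat.card_eq_fintype_card, Fintype.card_subtype, ← Finset.card_union_of_disjoint, hddef,
      Nat.card_eq_fintype_card]
    · exact Finset.card_le_univ _
    · refine Finset.disjoint_left.2 fun x hx hx' => ?_
      rw [Finset.mem_filter, Z0_of_mem_famPts hx] at hx'
      exact hω hx'.2
  have hw'' : k * q' = w' := by
    rw [hμ1, one_mul, show a' = q' by omega] at hkμ'
    exact hkμ'
  rw [hDq', hmain.1] at hN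
  refine arith_fix (k := k) (d := d) hq (le_trans (Nat.add_le_add_right hN _) hsum) ?_
  rwa [show q - 1 = q' by omega, hw'', ← hw', ← show q - 1 = q' by omega]

end CfsgLib.MinIndexPSp
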