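import Cfsg.Agent.Lib.MinIndexPSp.Stab

/-!
Counting the orbits of `Q` in the translates of one orbit under Levi elements.
-/

set_option autoImplicit false
set_option linter.unusedSectionVars false

namespace CfsgLib.MinIndexPSp

open Matrix Cfsg CfsgLib.Linear.Symp

variable {F : Type*} [Field F] {m : ℕ} [NeZero m]
variable {Ω : Type*} [MulAction (symplecticGroup (Fin m) F) Ω]

/-- Levi elements preserving the central stabiliser. -/
def IsFam (ω : Ω) (g : symplecticGroup (Fin m) F) : Prop :=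
  ∃ l, Lev g l ∧ ∀ z, l ^ 2 * z ∈ Z0 m F ω ↔ z ∈ Z0 m F ω

theorem isFam_one (ω : Ω) : IsFam ω (1 : symplecticGroup (Fin m) F) :=
  ⟨1, Lev.one, fun z => by rw [one_pow, one_mul]⟩

theorem isFam_of_lev {ω : Ω} {g : symplecticGroup (Fin m) F} (h : Lev g 1) : IsFam ω g :=
  ⟨1, h, fun z => by rw [one_pow, one_mul]⟩

theorem IsFam.mul {ω : Ω} {g k : symplecticGroup (Fin m) F} (hg : IsFam ω g) (hk : IsFam ω k) :
    IsFam ω (g * k) := by
  obtain ⟨l, hl, hz⟩ := hg
  obtain ⟨l', hl', hz'⟩ := hk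
  exact ⟨l * l', hl.mul hl', fun z => by rw [mul_pow, mul_assoc, hz, hz']⟩

theorem IsFam.Z0_eq {ω : Ω} {g : symplecticGroup (Fin m) F} (hg : IsFam ω g) :
    Z0 m F (g • ω) = Z0 m F ω := by
  obtain ⟨l, hl, hz⟩ := hg
  ext z
  have h := mem_Z0_lev (ω := ω) hl (z := (l ^ 2)⁻¹ * z)
  rw [mul_inv_cancel_left₀ (pow_ne_zero 2 hl.ne_zero)] at h
  rw [h, ← hz, mul_inv_cancel_left₀ (pow_ne_zero 2 hl.ne_zero)]

variable [Finite F] [Finite Ω]

/-- The orbits of `Q` in the translates of the orbit of `ω`. -/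
noncomputable def fam (m : ℕ) [NeZero m] (F : Type*) [Field F] [Finite F] {Ω : Type*}
    [MulAction (symplecticGroup (Fin m) F) Ω] (ω : Ω) : Finset (Set Ω) :=
  (Set.toFinite ((fun g : symplecticGroup (Fin m) F => qo m F (g • ω)) '' {g | IsFam ω g})).toFinset

theorem mem_fam {ω : Ω} {O : Set Ω} :
    O ∈ fam m F ω ↔ ∃ g : symplecticGroup (Fin m) F, IsFam ω g ∧ qo m F (g • ω) = O := by
  simp [fam]

/-- The points in the translates of the orbit of `ω`. -/
noncomputable def famPts (m : ℕ) [NeZero m] (F : Type*) [Field F] [Finite F] {Ω : Type*}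
    [MulAction (symplecticGroup (Fin m) F) Ω] [Finite Ω] (ω : Ω) : Finset Ω :=
  (Set.toFinite {x : Ω | qo m F x ∈ fam m F ω}).toFinset

theorem mem_famPts {ω x : Ω} : x ∈ famPts m F ω ↔ qo m F x ∈ fam m F ω := by simp [famPts]

theorem Z0_of_mem_famPts {ω x : Ω} (h : x ∈ famPts m F ω) : Z0 m F x = Z0 m F ω := by
  obtain ⟨g, hg, he⟩ := mem_fam.1 (mem_famPts.1 h)
  rw [← hg.Z0_eq, Z0_eq_of_mem (he.symm ▸ self_mem_qo : x ∈ qo m F (g • ω))]

variable (χ : AddChar F ℂ) (hχ : χ ≠ 1)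

include hχ in
/-- The counting lemma for one family. -/
theorem fam_spec (ω : Ω) (hA : An m χ ω ≠ ⊥) :
    ∃ k μ : ℕ, 1 ≤ k ∧ 1 ≤ μ ∧
      k * (Nat.card (An m χ ω) - 1) = μ * (Nat.card F ^ (2 * (m - 1)) - 1) ∧
      k * (Nat.card (F ⧸ Z0 m F ω) * Nat.card (An m χ ω)) ≤ (famPts m F ω).card ∧
      (μ = 1 → ∀ g : symplecticGroup (Fin m) F, IsFam ω g →
        (∃ y, y ≠ 0 ∧ y ∈ An m χ ω ∧ y ∈ An m χ (g • ω)) → g • ω ∈ qo m F ω) := by
  classical
  have : Fintype F := Fintype.ofFinite F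
  have : Fintype (Wsp m F) := Fintype.ofFinite _
  have : Fintype Ω := Fintype.ofFinite _
  let AO : Set Ω → Finset (Wsp m F) := fun O => Finset.univ.filter fun y => ∀ x ∈ O, y ∈ An m χ x
  have hAO : ∀ g : symplecticGroup (Fin m) F, ∀ y,
      y ∈ AO (qo m F (g • ω)) ↔ y ∈ An m χ (g • ω) := by
    intro g y
    simp only [AO, Finset.mem_filter, Finset.mem_univ, true_and]
    exact ⟨fun h => h _ self_mem_qo, fun h x hx => by rwa [An_eq_of_mem χ hx]⟩
  have hcard : ∀ O ∈ fam m F ω, (AO O).card = Nat.card (An m χ ω) := by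
    intro O hO
    obtain ⟨g, ⟨l, hl, hz⟩, rfl⟩ := mem_fam.1 hO
    rw [← card_An_lev χ hl, Nat.card_eq_fintype_card]
    exact (Fintype.card_of_subtype _ (hAO g)).symm
  have hfam1 : qo m F ω ∈ fam m F ω := mem_fam.2 ⟨1, isFam_one ω, by rw [one_smul]⟩
  let S0 : Finset (Wsp m F) := Finset.univ.filter fun y => y ≠ 0
  let mult : Wsp m F → ℕ := fun y => ((fam m F ω).filter fun O => y ∈ AO O).card
  have hS0 : S0.card = Nat.card F ^ (2 * (m - 1)) - 1 := by
    rw [← card_Wsp (m := m), Nat.card_eq_fintype_card]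
    simp [S0, Finset.filter_ne', Finset.card_erase_of_mem]
  have htot : ∑ y ∈ S0, mult y = (fam m F ω).card * (Nat.card (An m χ ω) - 1) := by
    simp only [mult, Finset.card_filter]
    rw [Finset.sum_comm, Finset.sum_congr rfl fun O hO => ?_, Finset.sum_const, smul_eq_mul]
    show _ = Nat.card (An m χ ω) - 1
    rw [← Finset.card_filter, ← hcard O hO,
      show S0.filter (fun y => y ∈ AO O) = (AO O).erase 0 from by ext y; simp [S0],
      Finset.card_erase_of_mem (Finset.mem_filter.2 ⟨Finset.mem_univ _, fun x _ => zero_mem _⟩)]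
  have hconst : ∀ y ∈ S0, ∀ z ∈ S0, mult y ≤ mult z := by
    intro y hy z hz
    simp only [S0, Finset.mem_filter, Finset.mem_univ, true_and] at hy hz
    obtain ⟨b, hb, hbz⟩ := exists_lev_smul_eq hy hz
    refine Finset.card_le_card_of_injOn (fun O => (fun x => b • x) '' O) (fun O hO => ?_)
      (Set.image_injective.2 (MulAction.injective b)).injOn
    simp only [Finset.coe_filter, Set.mem_ofPred_eq] at hO ⊢
    obtain ⟨hO, hyO⟩ := hO
    obtain ⟨g, hg, rfl⟩ := mem_fam.1 hO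
    have hqo : (fun x => b • x) '' qo m F (g • ω) = qo m F ((b * g) • ω) := by
      rw [mul_smul]
      ext x
      refine ⟨?_, fun hx => ⟨b⁻¹ • x, ?_, smul_inv_smul b x⟩⟩
      · rintro ⟨u, hu, rfl⟩; exact mem_qo_lev hb hu
      · simpa using mem_qo_lev hb.inv hx
    refine ⟨mem_fam.2 ⟨b * g, (isFam_of_lev hb).mul hg, hqo.symm⟩, ?_⟩
    rw [hqo, hAO, mul_smul]
    have := (mem_An_lev χ hb).2 ((hAO g y).1 hyO)
    rwa [inv_one, one_smul, show hb.act y = z from Subtype.ext hbz] at this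
  obtain ⟨v, hvA, hv⟩ : ∃ v ∈ An m χ ω, v ≠ 0 := by
    by_contra hcon
    push Not at hcon
    exact hA ((AddSubgroup.eq_bot_iff_forall _).2 hcon)
  have hvS : v ∈ S0 := by simp [S0, hv]
  refine ⟨(fam m F ω).card, mult v, Finset.card_pos.2 ⟨_, hfam1⟩, ?_, ?_, ?_, ?_⟩
  · refine Finset.card_pos.2 ⟨qo m F ω, Finset.mem_filter.2 ⟨hfam1, ?_⟩⟩
    simpa using (hAO 1 v).2 (by rwa [one_smul])
  · rw [← htot, Finset.sum_const_nat (m := mult v) fun y hy =>
      le_antisymm (hconst y hy v hvS) (hconst v hvS y hy), hS0, mul_comm]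
  · rw [Finset.card_eq_sum_card_fiberwise (f := fun x => qo m F x) (t := fam m F ω)
      fun x hx => mem_famPts.1 hx, ← smul_eq_mul]
    refine Finset.card_nsmul_le_sum _ _ _ fun O hO => ?_
    obtain ⟨g, hg, rfl⟩ := mem_fam.1 hO
    have hsub : ((famPts m F ω).filter fun x => qo m F x = qo m F (g • ω)) =
        (qo m F (g • ω)).toFinset := by
      ext x
      simp only [Finset.mem_filter, Set.mem_toFinset, mem_famPts]
      exact ⟨fun h => h.2 ▸ self_mem_qo, fun h => ⟨by rw [qo_eq h]; exact hO, qo_eq h⟩⟩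
    rw [hsub, Set.toFinset_card, ← Nat.card_eq_fintype_card]
    obtain ⟨l, hl, hz⟩ := hg
    refine le_trans ?_ (card_le_card_qo (g • ω))
    rw [IsFam.Z0_eq ⟨l, hl, hz⟩, ← card_An χ hχ, card_An_lev χ hl]
  · intro hμ g hg ⟨y, hy, hy1, hy2⟩
    have hyS : y ∈ S0 := by simp [S0, hy]
    have hle : mult y ≤ 1 := hμ ▸ hconst y hyS v hvS
    have := Finset.card_le_one.1 hle (qo m F (g • ω))
      (Finset.mem_filter.2 ⟨mem_fam.2 ⟨g, hg, rfl⟩, (hAO g y).2 hy2⟩) (qo m F ω)
      (Finset.mem_filter.2 ⟨hfam1, by simpa using (hAO 1 y).2 (by rwa [one_smul])⟩)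
    exact this ▸ self_mem_qo

/-- The Levi translates of the family with distinct central stabilisers are disjoint. -/
theorem card_translates (ω : Ω) :
    (Nat.card {Z : AddSubgroup F // ∃ (g : symplecticGroup (Fin m) F) (l : F),
      Lev g l ∧ Z0 m F (g • ω) = Z}) * (famPts m F ω).card ≤ Nat.card Ω := by
  classical
  rw [← Nat.card_eq_finsetCard, ← Nat.card_prod]
  choose g l hl hg using fun Z : {Z : AddSubgroup F // ∃ (g : symplecticGroup (Fin m) F) (l : F),
    Lev g l ∧ Z0 m F (g • ω) = Z} => Z.2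
  refine Nat.card_le_card_of_injective (fun p => g p.1 • (p.2 : Ω)) ?_
  rintro ⟨Z, x⟩ ⟨Z', x'⟩ e
  have hZ : ∀ Z (x : famPts m F ω), Z0 m F (g Z • (x : Ω)) = Z.1 := by
    intro Z x
    rw [← hg Z]
    ext z
    have h1 := mem_Z0_lev (ω := (x : Ω)) (hl Z) (z := ((l Z) ^ 2)⁻¹ * z)
    have h2 := mem_Z0_lev (ω := ω) (hl Z) (z := ((l Z) ^ 2)⁻¹ * z)
    rw [mul_inv_cancel_left₀ (pow_ne_zero 2 (hl Z).ne_zero)] at h1 h2
    rw [h1, h2, Z0_of_mem_famPts x.2]
  have : Z = Z' := Subtype.ext (by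
    have := congrArg (Z0 m F) (show g Z • (x : Ω) = g Z' • (x' : Ω) from e)
    rwa [hZ, hZ] at this)
  subst this
  exact Prod.ext rfl (Subtype.ext (smul_left_cancel _ e))

open Classical in
include hχ in
/-- A moved point has enough translates of its central stabiliser. -/
theorem translates_bound (ω : Ω) (hω : Z0 m F ω ≠ ⊤) :
    Nat.card F - 1 ≤ (if (2 : F) = 0 then 1 else 2) *
      ((Nat.card {Z : AddSubgroup F // ∃ (g : symplecticGroup (Fin m) F) (l : F),
        Lev g l ∧ Z0 m F (g • ω) = Z}) * (Nat.card (F ⧸ Z0 m F ω) - 1)) := by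
  classical
  have : Fintype F := Fintype.ofFinite F
  obtain ⟨a, ha, ha0⟩ : ∃ a ∈ AnF m χ ω, a ≠ 0 := by
    by_contra hcon
    push Not at hcon
    refine hω (eq_top_iff.2 fun z _ => mem_Z0_of_forall χ hχ fun y hy => ?_)
    rw [hcon y hy, zero_mul, AddChar.map_zero_eq_one]
  set 𝒵 := {Z : AddSubgroup F // ∃ (g : symplecticGroup (Fin m) F) (l : F),
    Lev g l ∧ Z0 m F (g • ω) = Z}
  have : Fintype 𝒵 := Fintype.ofFinite _
  let U : Finset F := Finset.univ.filter fun c => ∃ u : F, u ≠ 0 ∧ a * u ^ 2 = c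
  let ann : 𝒵 → Finset F := fun Z =>
    Finset.univ.filter fun c => c ≠ 0 ∧ ∀ z ∈ Z.1, χ (c * z) = 1
  have hann : ∀ Z : 𝒵, (ann Z).card = Nat.card (F ⧸ Z0 m F ω) - 1 := by
    rintro ⟨Z, g, l, hl, rfl⟩
    have hc : Nat.card (AnF m χ ω) = Nat.card (AnF m χ (g • ω)) := by
      refine Nat.card_congr
        { toFun := fun y => ⟨(l ^ 2)⁻¹ * y.1, fun z hz => ?_⟩
          invFun := fun y => ⟨l ^ 2 * y.1, fun z hz => ?_⟩
          left_inv := fun y => Subtype.ext (mul_inv_cancel_left₀ (pow_ne_zero 2 hl.ne_zero) _)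
          right_inv := fun y => Subtype.ext (inv_mul_cancel_left₀ (pow_ne_zero 2 hl.ne_zero) _) }
      · rw [AddChar.mulShift_apply, mul_assoc, mul_left_comm]
        exact y.2 _ ((mem_Z0_lev hl).1 (by
          rwa [mul_inv_cancel_left₀ (pow_ne_zero 2 hl.ne_zero)]))
      · rw [AddChar.mulShift_apply, mul_assoc, mul_left_comm]
        exact y.2 _ ((mem_Z0_lev hl).2 hz)
    rw [← card_AnF χ hχ, hc, Nat.card_eq_fintype_card,
      Fintype.card_of_subtype (Finset.univ.filter fun c => ∀ z ∈ Z0 m F (g • ω), χ (c * z) = 1)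
        (by simp [mem_AnF]),
      ← Finset.card_erase_of_mem (a := (0 : F)) (by simp)]
    congr 1
    ext c
    simp [ann]
  have hU : U ⊆ Finset.univ.biUnion ann := by
    intro c hc
    obtain ⟨u, hu, rfl⟩ := (Finset.mem_filter.1 hc).2
    obtain ⟨t, ht, -⟩ := exists_torus (m := m) (inv_ne_zero hu)
    refine Finset.mem_biUnion.2 ⟨⟨_, t, u⁻¹, ht, rfl⟩, Finset.mem_univ _,
      Finset.mem_filter.2 ⟨Finset.mem_univ _, mul_ne_zero ha0 (pow_ne_zero 2 hu), fun z hz => ?_⟩⟩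
    rw [mul_assoc]
    refine ha _ ((mem_Z0_lev ht).1 ?_)
    rwa [← mul_assoc, ← mul_pow, inv_mul_cancel₀ hu, one_pow, one_mul]
  have h1 : U.card ≤ Nat.card 𝒵 * (Nat.card (F ⧸ Z0 m F ω) - 1) := by
    refine (Finset.card_le_card hU).trans (Finset.card_biUnion_le.trans ?_)
    rw [Finset.sum_congr rfl fun Z _ => hann Z, Finset.sum_const, smul_eq_mul, Finset.card_univ,
      ← Nat.card_eq_fintype_card (α := 𝒵)]
  have h2 : (Finset.univ.filter fun u : F => u ≠ 0).card ≤ (if (2 : F) = 0 then 1 else 2) * U.card := by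
    refine Finset.card_le_mul_card_image_of_maps_to (f := fun u => a * u ^ 2)
      (fun u hu => Finset.mem_filter.2 ⟨Finset.mem_univ _, u, (Finset.mem_filter.1 hu).2, rfl⟩) _ ?_
    intro c hc
    obtain ⟨u, hu, rfl⟩ := (Finset.mem_filter.1 hc).2
    refine (Finset.card_le_card (t := {u, -u}) fun x hx => ?_).trans ?_
    · have h := mul_left_cancel₀ ha0 (Finset.mem_filter.1 hx).2
      rcases sq_eq_sq_iff_eq_or_eq_neg.1 h with rfl | rfl <;> simp
    · split_ifs with h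
      · have : -u = u := by linear_combination (-u) * h
        simp [this]
      · exact Finset.card_le_two
  have h3 : (Finset.univ.filter fun u : F => u ≠ 0).card = Nat.card F - 1 := by
    simp [Finset.filter_ne', Finset.card_erase_of_mem]
  rw [← h3]
  exact h2.trans (Nat.mul_le_mul_left _ h1)

end CfsgLib.MinIndexPSp
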