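import Cfsg.Agent.Lib.MinIndexPSp.Moved

/-!
Points fixed by full transvection groups in an action of small degree.
-/

set_option autoImplicit false
set_option linter.unusedSectionVars false

namespace CfsgLib.MinIndexPSp

open Matrix Cfsg CfsgLib.Linear.Symp
open scoped LinearAlgebra.Projectivization Pointwise

variable {F : Type*} [Field F] {m : ℕ}
variable {Ω : Type*} [MulAction (symplecticGroup (Fin m) F) Ω]

/-- The transvection group of `x` fixes `ω`. -/
def Tf (ω : Ω) (x : Fin m ⊕ Fin m → F) : Prop := ∀ c : F, tv x c • ω = ω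

theorem Tf.smul {ω : Ω} {x : Fin m ⊕ Fin m → F} (h : Tf ω x) (a : F) : Tf ω (a • x) :=
  fun c => by rw [tv_smul_vec]; exact h _

theorem tf_smul_iff {ω : Ω} (g : symplecticGroup (Fin m) F) {x : Fin m ⊕ Fin m → F} :
    Tf (g • ω) (g • x) ↔ Tf ω x := by
  refine forall_congr' fun c => ?_
  rw [← tv_conj, mul_smul, mul_smul, inv_smul_smul, smul_left_cancel_iff]

theorem Tf.of_stab {ω : Ω} {x : Fin m ⊕ Fin m → F} (h : Tf ω x) {g : symplecticGroup (Fin m) F}
    (hg : g • ω = ω) : Tf ω (g • x) := by
  have := (tf_smul_iff g).2 h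
  rwa [hg] at this

theorem Tf.line {ω : Ω} {x y : Fin m ⊕ Fin m → F} (hx : Tf ω x) (hy : Tf ω y)
    (h : sympForm m F x y ≠ 0) (a b : F) : Tf ω (a • x + b • y) := by
  have hadd : ∀ c : F, Tf ω (x + c • y) := fun c => by
    have := hx.of_stab (hy (c / sympForm m F x y))
    rwa [tv_smul, div_mul_cancel₀ _ h] at this
  by_cases ha : a = 0
  · rw [ha, zero_smul, zero_add]; exact hy.smul b
  · have := (hadd (b / a)).smul a
    rwa [smul_add, smul_smul, mul_div_cancel₀ _ ha] at this

variable [Finite Ω] [MulAction.IsPretransitive (symplecticGroup (Fin m) F) Ω]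

/-- An object fixed by a point stabiliser has a small orbit. -/
theorem card_orbit_le {X : Type*} [MulAction (symplecticGroup (Fin m) F) X] (x : X) (ω : Ω)
    (h : ∀ g : symplecticGroup (Fin m) F, g • ω = ω → g • x = x) :
    Nat.card (MulAction.orbit (symplecticGroup (Fin m) F) x) ≤ Nat.card Ω := by
  choose g hg using fun ω' : Ω => MulAction.exists_smul_eq (symplecticGroup (Fin m) F) ω ω'
  refine Nat.card_le_card_of_surjective (fun ω' => ⟨g ω' • x, g ω', rfl⟩) ?_
  rintro ⟨_, k, rfl⟩
  refine ⟨k • ω, Subtype.ext ?_⟩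
  have : (k⁻¹ * g (k • ω)) • ω = ω := by rw [mul_smul, hg, inv_smul_smul]
  have h' := h _ this
  rw [mul_smul, inv_smul_eq_iff] at h'
  exact h'

variable [Finite F] [NeZero m]

/-- A point stabiliser fixes no point of the projective space. -/
theorem false_of_fix_point (hd : Nat.card Ω * (Nat.card F - 1) + 1 < Nat.card F ^ (2 * m))
    {ω : Ω} {v : Fin m ⊕ Fin m → F} (hv : v ≠ 0)
    (h : ∀ g : symplecticGroup (Fin m) F, g • ω = ω → ∃ c : F, g • v = c • v) : False := by
  have := isPretransitive_proj (F := F) (m := m)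
  have horb := card_orbit_le (Projectivization.mk F v hv) ω fun g hg => by
    obtain ⟨c, hc⟩ := h g hg
    rw [smul_mk_eq, Projectivization.mk_eq_mk_iff']
    exact ⟨c, hc.symm⟩
  rw [MulAction.orbit_eq_univ, Nat.card_congr (Equiv.Set.univ _)] at horb
  have hc := Projectivization.card' F (Fin m ⊕ Fin m → F)
  have hV : Nat.card (Fin m ⊕ Fin m → F) = Nat.card F ^ (2 * m) := by
    rw [Nat.card_fun, Nat.card_sum, Nat.card_fin, two_mul]
  rw [hV] at hc
  have := Nat.mul_le_mul_right (Nat.card F - 1) horb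
  omega

/-- Not every transvection fixes a point. -/
theorem false_of_all (hne : 1 < Nat.card Ω) {ω : Ω} (h : ∀ x : Fin m ⊕ Fin m → F, Tf ω x) :
    False := by
  have hle : transvectionSubgroup m F ≤ MulAction.stabilizer (symplecticGroup (Fin m) F) ω := by
    refine (Subgroup.closure_le _).2 ?_
    rintro A ⟨w, c, hA⟩
    obtain rfl : A = tv w c := Subtype.ext hA
    exact h w c
  have hsub : Subsingleton Ω := ⟨fun a b => by
    have hall : ∀ x : Ω, x = ω := fun x => by
      obtain ⟨g, rfl⟩ := MulAction.exists_smul_eq (symplecticGroup (Fin m) F) ω x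
      exact hle (transvectionSubgroup_eq_top (F := F) (m := m) ▸ Subgroup.mem_top g)
    rw [hall a, hall b]⟩
  rw [Nat.card_of_subsingleton ω] at hne
  omega

/-- The union of the span of a pair and of its perpendicular space. -/
def Ust (u v : Fin m ⊕ Fin m → F) : Set (Fin m ⊕ Fin m → F) :=
  {x | (sympForm m F x u = 0 ∧ sympForm m F x v = 0) ∨ ∃ a b : F, x = a • u + b • v}

theorem smul_Ust (g : symplecticGroup (Fin m) F) (u v : Fin m ⊕ Fin m → F) :
    g • Ust u v = Ust (g • u) (g • v) := by
  ext x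
  rw [Set.mem_smul_set_iff_inv_smul_mem]
  simp only [Ust, Set.mem_ofPred_eq]
  constructor
  · rintro (⟨h1, h2⟩ | ⟨a, b, h⟩)
    · left
      rw [← smul_inv_smul g x, form_smul_smul, form_smul_smul]
      exact ⟨h1, h2⟩
    · exact Or.inr ⟨a, b, by rw [← smul_inv_smul g x, h, smul_add, smul_comm, smul_comm b]⟩
  · rintro (⟨h1, h2⟩ | ⟨a, b, rfl⟩)
    · left
      rw [← smul_inv_smul g x, form_smul_smul] at h1 h2
      exact ⟨h1, h2⟩
    · exact Or.inr ⟨a, b, by rw [smul_add, ← smul_comm a, ← smul_comm b, inv_smul_smul, inv_smul_smul]⟩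

theorem wproj_W (a : Wsp m F) : wproj a.1 = a :=
  Subtype.ext (by simp [wproj, form_W_ev, form_W_ev'])

theorem mem_Ust_std {x : Fin m ⊕ Fin m → F} :
    x ∈ Ust (ev m F) (ev' m F) ↔ x ∈ Wsp m F ∨ wproj x = 0 := by
  refine or_congr mem_Wsp.symm ⟨?_, fun h => ⟨sympForm m F x (ev' m F), -sympForm m F x (ev m F), ?_⟩⟩
  · rintro ⟨a, b, rfl⟩
    refine Subtype.ext ?_
    simp only [wproj, form_add_left, form_smul_left, form_self, form_ev_ev', form_ev'_ev,
      Submodule.coe_zero]
    module
  · conv_lhs => rw [decomp x, h, Submodule.coe_zero, add_zero]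
    rw [neg_smul, sub_eq_add_neg]

/-- A point stabiliser does not preserve a hyperbolic line and its perp. -/
theorem false_of_fix_Ust (hm : 2 ≤ m) (hq : 3 ≤ Nat.card F)
    (hd : Nat.card Ω * (Nat.card F - 1) + 1 < Nat.card F ^ (2 * m)) {ω : Ω}
    (h : ∀ g : symplecticGroup (Fin m) F, g • ω = ω → ∀ x ∈ Ust (ev m F) (ev' m F),
      g • x ∈ Ust (ev m F) (ev' m F)) : False := by
  classical
  have : Fintype F := Fintype.ofFinite F
  set U := Ust (ev m F) (ev' m F) with hU
  have horb := card_orbit_le (F := F) (m := m) U ω fun g hg => by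
    refine Set.eq_of_subset_of_ncard_le ?_ (le_of_eq ?_) (Set.toFinite _)
    · intro y hy
      obtain ⟨x, hx, rfl⟩ := Set.mem_smul_set.1 hy
      exact h g hg x hx
    · exact ((congrArg Set.ncard Set.image_smul).symm.trans
        (Set.ncard_image_of_injective U (MulAction.injective g))).symm
  set 𝒪 := MulAction.orbit (symplecticGroup (Fin m) F) U
  have : Fintype 𝒪 := Fintype.ofFinite _
  let P2 := {p : (Fin m ⊕ Fin m → F) × (Fin m ⊕ Fin m → F) // sympForm m F p.1 p.2 = 1}
  have : Fintype P2 := Fintype.ofFinite _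
  have hP2 : Nat.card P2 = (Nat.card F ^ (2 * m) - 1) * Nat.card F ^ (2 * m - 1) := by
    have h1 := card_hypPair (∅ : Finset (Fin m)) (F := F) (by simp; omega)
    rw [Finset.card_empty, Nat.sub_zero, ← Nat.card_eq_fintype_card] at h1
    rw [← h1]
    exact Nat.card_congr
      { toFun := fun p => ⟨p.1, inW_empty _, inW_empty _, p.2⟩
        invFun := fun p => ⟨p.1, p.2.2.2⟩
        left_inv := fun p => rfl
        right_inv := fun p => rfl }
  let Φ : P2 → 𝒪 := fun p => ⟨Ust p.1.1 p.1.2, by
    obtain ⟨g, h1, h2⟩ := exists_smul_pair form_ev_ev' p.2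
    exact ⟨g, by rw [hU, ← h1, ← h2]; exact smul_Ust g _ _⟩⟩
  -- fibres
  have hfib0 : (Finset.univ.filter fun p : P2 => (Φ p).1 = U).card ≤ 2 * Nat.card F ^ 3 := by
    have hcount : ∀ M : Submodule F (Fin m ⊕ Fin m → F), Nat.card M ≤ Nat.card F ^ 2 →
        Nat.card {p : P2 // p.1.1 ∈ M ∧ p.1.2 ∈ M} ≤ Nat.card F ^ 3 := by
      intro M hM
      have hex : ∀ u ∈ M, ∀ v0 ∈ M, ∀ v ∈ M, sympForm m F u v0 = 1 → sympForm m F u v = 1 →
          ∃ s : F, v = s • u + v0 := by
        intro u hu v0 hv0 v hv h01 hv1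
        let L : F × F → M := fun st =>
          ⟨st.1 • u + st.2 • v0, add_mem (M.smul_mem _ hu) (M.smul_mem _ hv0)⟩
        have hLi : Function.Injective L := by
          rintro ⟨a, b⟩ ⟨c, d⟩ e
          have e' : a • u + b • v0 = c • u + d • v0 := congrArg Subtype.val e
          have e1 := congrArg (fun x => sympForm m F u x) e'
          have e2 := congrArg (fun x => sympForm m F x v0) e'
          simp only [form_add_right, form_smul_right, form_self, h01, form_add_left, form_smul_left,
            mul_zero, mul_one, zero_add, add_zero] at e1 e2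
          rw [e1, e2]
        have hb : Function.Bijective L := by
          have : Fintype M := Fintype.ofFinite _
          refine (Fintype.bijective_iff_injective_and_card L).2 ⟨hLi, le_antisymm
            (Fintype.card_le_of_injective L hLi) ?_⟩
          rw [← Nat.card_eq_fintype_card, Fintype.card_prod, ← Nat.card_eq_fintype_card, ← sq]
          exact hM
        obtain ⟨⟨s, t⟩, hst⟩ := hb.2 ⟨v, hv⟩
        have hst' : s • u + t • v0 = v := congrArg Subtype.val hst
        have ht : t = 1 := by
          rw [← hst', form_add_right, form_smul_right, form_self, mul_zero, zero_add, form_smul_right,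
            h01, mul_one] at hv1
          exact hv1
        exact ⟨s, by rw [← hst', ht, one_smul]⟩
      -- choose one partner for each first vector
      have hrep : ∀ u : {u : M // ∃ v ∈ M, sympForm m F u.1 v = 1}, ∃ v ∈ M,
          sympForm m F u.1.1 v = 1 := fun u => u.2
      choose rep hrepM hrep1 using hrep
      choose s hs using fun p : {p : P2 // p.1.1 ∈ M ∧ p.1.2 ∈ M} =>
        hex p.1.1.1 p.2.1 _ (hrepM ⟨⟨_, p.2.1⟩, _, p.2.2, p.1.2⟩) p.1.1.2 p.2.2
          (hrep1 ⟨⟨_, p.2.1⟩, _, p.2.2, p.1.2⟩) p.1.2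
      refine le_trans (Nat.card_le_card_of_injective
        (fun p => ((⟨⟨_, p.2.1⟩, _, p.2.2, p.1.2⟩ : {u : M // ∃ v ∈ M, sympForm m F u.1 v = 1}), s p))
        fun p p' e => ?_) ?_
      · simp only [Prod.mk.injEq] at e
        obtain ⟨e1, e2⟩ := e
        refine Subtype.ext (Subtype.ext (Prod.ext (congrArg (fun u => u.1.1) e1) ?_))
        have e3 : p.1.1.1 = p'.1.1.1 := congrArg (fun u => u.1.1) e1
        rw [hs p, hs p', e2, e1, e3]
      · rw [Nat.card_prod, pow_succ]
        exact Nat.mul_le_mul_right _ (le_trans (Finite.card_subtype_le _) hM)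
    have hsplit : ∀ p : P2, (Φ p).1 = U →
        (p.1.1 ∈ Submodule.span F {ev m F, ev' m F} ∧ p.1.2 ∈ Submodule.span F {ev m F, ev' m F}) ∨
        (p.1.1 ∈ Wsp m F ∧ p.1.2 ∈ Wsp m F ∧ Nat.card (Wsp m F) ≤ Nat.card F ^ 2) := by
      intro p hp
      have hp' : Ust p.1.1 p.1.2 = U := hp
      have h1 : p.1.1 ∈ U := hp' ▸ Or.inr ⟨1, 0, by simp⟩
      have h2 : p.1.2 ∈ U := hp' ▸ Or.inr ⟨0, 1, by simp⟩
      have hspan : ∀ x : Fin m ⊕ Fin m → F, wproj x = 0 →
          x ∈ Submodule.span F {ev m F, ev' m F} := fun x hx => by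
        rw [decomp x, hx, Submodule.coe_zero, add_zero]
        exact sub_mem (Submodule.smul_mem _ _ (Submodule.subset_span (by simp)))
          (Submodule.smul_mem _ _ (Submodule.subset_span (by simp)))
      have hperp : ∀ a b : Fin m ⊕ Fin m → F, a ∈ Wsp m F → wproj b = 0 →
          sympForm m F a b = 0 := fun a b ha hb => by
        rw [decomp b, hb, Submodule.coe_zero, add_zero, form_sub_right, form_smul_right,
          form_smul_right, (mem_Wsp.1 ha).1, (mem_Wsp.1 ha).2, mul_zero, mul_zero, sub_zero]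
      rw [hU, mem_Ust_std] at h1 h2
      rcases h1 with h1 | h1 <;> rcases h2 with h2 | h2
      · refine Or.inr ⟨h1, h2, ?_⟩
        -- the perp of the pair meets `W` trivially
        let L : Wsp m F → F × F := fun a => (sympForm m F a.1 p.1.1, sympForm m F a.1 p.1.2)
        have hLi : Function.Injective L := by
          intro a b e
          simp only [L, Prod.mk.injEq] at e
          refine sub_eq_zero.1 ?_
          have he1 : sympForm m F (ev m F) p.1.1 = 0 := form_ev_W ⟨_, h1⟩
          have he2 : sympForm m F (ev m F) p.1.2 = 0 := form_ev_W ⟨_, h2⟩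
          have hmem : (a - b : Wsp m F).1 + ev m F ∈ U := by
            rw [← hp']
            refine Or.inl ⟨?_, ?_⟩
            · simp [form_add_left, form_sub_left, e.1, he1]
            · simp [form_add_left, form_sub_left, e.2, he2]
          rw [hU, mem_Ust_std] at hmem
          rcases hmem with hW | h0
          · exfalso
            have := (mem_Wsp.1 hW).2
            rw [form_add_left, form_W_ev', form_ev_ev', zero_add] at this
            exact one_ne_zero this
          · rw [← h0]
            refine Subtype.ext ?_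
            simp only [wproj, form_add_left, form_self, form_ev_ev', form_W_ev, form_W_ev', zero_add]
            module
        refine le_trans (Nat.card_le_card_of_injective L hLi) ?_
        rw [Nat.card_prod, sq]
      · exact absurd p.2 (by rw [hperp _ _ h1 h2]; exact zero_ne_one)
      · exact absurd p.2 (by rw [form_swap, hperp _ _ h2 h1, neg_zero]; exact zero_ne_one)
      · exact Or.inl ⟨hspan _ h1, hspan _ h2⟩
    set M1 := Submodule.span F {ev m F, ev' m F}
    have hM1 : Nat.card M1 ≤ Nat.card F ^ 2 := by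
      have hsurj : Function.Surjective fun st : F × F =>
          (⟨st.1 • ev m F + st.2 • ev' m F, Submodule.mem_span_pair.2 ⟨_, _, rfl⟩⟩ : M1) := by
        rintro ⟨x, hx⟩
        obtain ⟨a, b, rfl⟩ := Submodule.mem_span_pair.1 hx
        exact ⟨(a, b), rfl⟩
      exact (Nat.card_le_card_of_surjective _ hsurj).trans (by rw [Nat.card_prod, sq])
    have h1c := hcount M1 hM1
    rw [Nat.card_eq_fintype_card, Fintype.card_subtype] at h1c
    by_cases hW : Nat.card (Wsp m F) ≤ Nat.card F ^ 2
    · have h2c := hcount (Wsp m F) hW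
      rw [Nat.card_eq_fintype_card, Fintype.card_subtype] at h2c
      refine le_trans (Finset.card_le_card
        (t := (Finset.univ.filter fun p : P2 => p.1.1 ∈ M1 ∧ p.1.2 ∈ M1) ∪
          Finset.univ.filter fun p : P2 => p.1.1 ∈ Wsp m F ∧ p.1.2 ∈ Wsp m F) fun p hp => ?_)
        (le_trans (Finset.card_union_le _ _) (by omega))
      rcases hsplit p (Finset.mem_filter.1 hp).2 with h | h
      · exact Finset.mem_union_left _ (by simp [h])
      · exact Finset.mem_union_right _ (by simp [h.1, h.2.1])
    · refine le_trans (Finset.card_le_card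
        (t := Finset.univ.filter fun p : P2 => p.1.1 ∈ M1 ∧ p.1.2 ∈ M1) fun p hp => ?_) (by omega)
      rcases hsplit p (Finset.mem_filter.1 hp).2 with h | h
      · simp [h]
      · exact absurd h.2.2 hW
  have hfib : ∀ O : 𝒪, (Finset.univ.filter fun p => Φ p = O).card ≤ 2 * Nat.card F ^ 3 := by
    rintro ⟨_, g, rfl⟩
    refine le_trans (Finset.card_le_card_of_injOn
      (fun p => (⟨(g⁻¹ • p.1.1, g⁻¹ • p.1.2), by rw [form_smul_smul]; exact p.2⟩ : P2))
      (fun p hp => ?_) fun p _ p' _ e => ?_) hfib0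
    · simp only [Finset.coe_filter, Finset.mem_univ, true_and, Set.mem_ofPred_eq] at hp ⊢
      show Ust (g⁻¹ • p.1.1) (g⁻¹ • p.1.2) = U
      rw [← smul_Ust, show Ust p.1.1 p.1.2 = g • U from congrArg Subtype.val hp, inv_smul_smul]
    · have e1 := congrArg (fun p : P2 => p.1.1) e
      have e2 := congrArg (fun p : P2 => p.1.2) e
      exact Subtype.ext (Prod.ext ((smul_left_cancel_iff _).1 e1) ((smul_left_cancel_iff _).1 e2))
  have htot : Nat.card P2 ≤ (2 * Nat.card F ^ 3) * Nat.card Ω := by
    rw [Nat.card_eq_fintype_card, ← Finset.card_univ]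
    refine le_trans (Finset.card_le_mul_card_image _ _ fun O _ => hfib O) (Nat.mul_le_mul_left _ ?_)
    refine le_trans ?_ horb
    rw [Nat.card_eq_fintype_card (α := 𝒪)]
    exact Finset.card_le_univ _
  rw [hP2] at htot
  -- arithmetic
  obtain ⟨r, hr⟩ : ∃ r, Nat.card F ^ (2 * m) = r + 1 :=
    ⟨_, (Nat.sub_add_cancel (Nat.one_le_pow _ _ (by omega))).symm⟩
  rw [hr] at hd
  rw [hr, Nat.add_sub_cancel] at htot
  have hpow : Nat.card F ^ 3 ≤ Nat.card F ^ (2 * m - 1) := Nat.pow_le_pow_right (by omega) (by omega)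
  have h1 : 2 * Nat.card F ^ 3 ≤ Nat.card F ^ (2 * m - 1) * (Nat.card F - 1) := by
    rw [mul_comm]; exact Nat.mul_le_mul hpow (by omega)
  have h2 := Nat.mul_le_mul_right (Nat.card F - 1) htot
  have h3 : r * (2 * Nat.card F ^ 3) ≤ r * (Nat.card F ^ (2 * m - 1) * (Nat.card F - 1)) :=
    Nat.mul_le_mul_left _ h1
  have h4 : 0 < Nat.card F ^ 3 := pow_pos (by omega) 3
  nlinarith

/-- In a point stabiliser the transvections of `W` do not all occur. -/
theorem false_of_full_W (hm : 2 ≤ m) (hq : 3 ≤ Nat.card F) (hne : 1 < Nat.card Ω)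
    (hd : Nat.card Ω * (Nat.card F - 1) + 1 < Nat.card F ^ (2 * m)) {ω : Ω}
    (hW : ∀ w : Wsp m F, Tf ω w.1) : False := by
  classical
  have hL : transvectionSubgroupW ({0} : Finset (Fin m)) F ≤
      MulAction.stabilizer (symplecticGroup (Fin m) F) ω := by
    refine (Subgroup.closure_le _).2 ?_
    rintro _ ⟨w, c, hw, rfl⟩
    exact hW ⟨w, hw⟩ c
  have hsum : ∀ x : Fin m ⊕ Fin m → F, x = (wproj x).1 + (x - (wproj x).1) := fun x =>
    (add_sub_cancel (wproj x).1 x).symm
  have hbpart : ∀ x : Fin m ⊕ Fin m → F, wproj (x - (wproj x).1) = 0 := fun x => Subtype.ext (by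
    simp only [wproj, form_sub_left, form_add_left, form_smul_left, form_self, form_ev_ev',
      form_ev'_ev, Submodule.coe_zero]
    module)
  have hperp : ∀ (a : Wsp m F) (b : Fin m ⊕ Fin m → F), wproj b = 0 → sympForm m F a.1 b = 0 := fun a b hb => by
    rw [decomp b, hb, Submodule.coe_zero, add_zero, form_sub_right, form_smul_right, form_smul_right,
      form_W_ev, form_W_ev', mul_zero, mul_zero, sub_zero]
  -- a mixed vector spreads
  have hmix : ∀ {a : Wsp m F} {b : Fin m ⊕ Fin m → F}, a ≠ 0 → wproj b = 0 → Tf ω (a.1 + b) →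
      (∀ a' : Wsp m F, a' ≠ 0 → Tf ω (a'.1 + b)) ∧ Tf ω b := by
    intro a b ha hb hab
    have h1 : ∀ a' : Wsp m F, a' ≠ 0 → Tf ω (a'.1 + b) := by
      intro a' ha'
      obtain ⟨g, hg, hga⟩ := exists_smul_eq_inW a.2 a'.2 (fun h => ha (Subtype.ext h))
        (fun h => ha' (Subtype.ext h))
      have hgb : g • b = b := by
        have hl := lev_of_mem hg
        rw [decomp b, hb, Submodule.coe_zero, add_zero, smul_sub, smul_comm g, smul_comm g, hl.1,
          hl.2, inv_one, one_smul, one_smul]
      have := hab.of_stab (hL hg)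
      rwa [smul_add, hga, hgb] at this
    refine ⟨h1, fun c => ?_⟩
    obtain ⟨t, ht0, htc⟩ : ∃ t : F, t ≠ 0 ∧ t + c ≠ 0 := by
      by_contra hcon
      push Not at hcon
      have : Fintype F := Fintype.ofFinite F
      have hu : (Finset.univ : Finset F) ⊆ {0, -c} := fun x _ => by
        by_cases hx : x = 0
        · simp [hx]
        · simp [eq_neg_of_add_eq_zero_left (hcon x hx)]
      have := (Finset.card_le_card hu).trans Finset.card_le_two
      rw [Finset.card_univ, ← Nat.card_eq_fintype_card] at this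
      omega
    have hfix : ∀ s : F, s ≠ 0 → sx b a.1 s • ω = ω := by
      intro s hs
      have hne' : s⁻¹ • a ≠ 0 := smul_ne_zero (inv_ne_zero hs) ha
      have hab0 := hperp a b hb
      have key : tv ((s⁻¹ • a : Wsp m F).1 + b) s * tv (s⁻¹ • a : Wsp m F).1 (-s) = sx b a.1 s := by
        have hba : sympForm m F b a.1 = 0 := by rw [form_swap, hab0, neg_zero]
        refine group_ext fun v => ?_
        rw [mul_smul, tv_smul, tv_smul, sx_smul hab0]
        simp only [Submodule.coe_smul, form_add_left, form_add_right, form_smul_left, form_smul_right,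
          form_self, hab0, mul_zero, add_zero]
        match_scalars <;> field_simp <;> ring
      rw [← key, mul_smul, hW (s⁻¹ • a) (-s), h1 _ hne' s]
    have hadd : sx b a.1 (t + c) = tv b c * sx b a.1 t := by
      have hab0 := hperp a b hb
      refine group_ext fun v => ?_
      rw [mul_smul, sx_smul hab0, sx_smul hab0, tv_smul]
      simp only [form_add_left, form_smul_left, form_self, hab0, mul_zero, add_zero]
      module
    have := hfix _ htc
    rwa [hadd, mul_smul, hfix t ht0] at this
  by_cases hnone : ∀ b : Fin m ⊕ Fin m → F, Tf ω b → wproj b = 0 → b = 0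
  · -- the vectors are those of `W`
    have hT : ∀ x : Fin m ⊕ Fin m → F, Tf ω x → x ∈ Wsp m F := by
      intro x hx
      have hb0 : x - (wproj x).1 = 0 := by
        by_cases ha : wproj x = 0
        · exact hnone _ (by rwa [ha, Submodule.coe_zero, sub_zero]) (hbpart x)
        · exact hnone _ (hmix ha (hbpart x) (by rwa [← hsum])).2 (hbpart x)
      rw [sub_eq_zero] at hb0
      rw [hb0]; exact (wproj x).2
    refine false_of_fix_Ust (F := F) (m := m) hm hq hd (ω := ω) fun g hg x hx => ?_
    rw [mem_Ust_std] at hx ⊢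
    rcases hx with hx | hx
    · exact Or.inl (hT _ ((hW ⟨x, hx⟩).of_stab hg))
    · refine Or.inr (eq_zero_of_forall_form_W fun a => ?_)
      have hg' : g⁻¹ • ω = ω := inv_smul_eq_iff.2 hg.symm
      have ha : g⁻¹ • a.1 ∈ Wsp m F := hT _ ((hW a).of_stab hg')
      have h0 : sympForm m F (g • x) a.1 = 0 := by
        rw [← smul_inv_smul g a.1, form_smul_smul, form_swap, hperp ⟨_, ha⟩ x hx, neg_zero]
      have h1 := form_add_left (F := F) (m := m) (wproj (g • x)).1 (g • x - (wproj (g • x)).1) a.1
      rw [← hsum, h0, form_swap a.1 (g • x - _), hperp a _ (hbpart _), neg_zero, add_zero] at h1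
      exact h1.symm
  push Not at hnone
  obtain ⟨b0, hb0T, hb0p, hb0⟩ := hnone
  by_cases hB : ∀ b : Fin m ⊕ Fin m → F, Tf ω b → wproj b = 0 → ∃ c : F, b = c • b0
  · -- `b0` spans the radical
    refine false_of_fix_point hd (v := b0) hb0 (ω := ω) fun g hg => ?_
    have hall : ∀ x : Fin m ⊕ Fin m → F, Tf ω x → sympForm m F x b0 = 0 := by
      intro x hx
      obtain ⟨c, hc⟩ : ∃ c : F, x - (wproj x).1 = c • b0 := by
        by_cases ha : wproj x = 0
        · exact hB _ (by rwa [ha, Submodule.coe_zero, sub_zero]) (hbpart x)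
        · exact hB _ (hmix ha (hbpart x) (by rwa [← hsum])).2 (hbpart x)
      rw [hsum x, hc, form_add_left, form_smul_left, hperp _ _ hb0p, form_self, mul_zero, add_zero]
    refine hB _ (hb0T.of_stab hg) (eq_zero_of_forall_form_W fun a => ?_)
    have hg' : g⁻¹ • ω = ω := inv_smul_eq_iff.2 hg.symm
    have h0 : sympForm m F (g • b0) a.1 = 0 := by
      rw [← smul_inv_smul g a.1, form_smul_smul, form_swap, hall _ ((hW a).of_stab hg'), neg_zero]
    have h1 := form_add_left (F := F) (m := m) (wproj (g • b0)).1 (g • b0 - (wproj (g • b0)).1) a.1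
    rw [← hsum, h0, form_swap a.1 (g • b0 - _), hperp a _ (hbpart _), neg_zero, add_zero] at h1
    exact h1.symm
  push Not at hB
  obtain ⟨b1, hb1T, hb1p, hb1⟩ := hB
  -- the whole line occurs
  have hline : ∀ b : Fin m ⊕ Fin m → F, wproj b = 0 → Tf ω b := by
    have hco : ∀ b : Fin m ⊕ Fin m → F, wproj b = 0 →
        ∃ p q : F, b = p • ev m F + q • ev' m F := fun b hb =>
      ⟨sympForm m F b (ev' m F), -sympForm m F b (ev m F), by
        conv_lhs => rw [decomp b, hb, Submodule.coe_zero, add_zero]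
        rw [neg_smul, sub_eq_add_neg]⟩
    obtain ⟨p0, q0, rfl⟩ := hco b0 hb0p
    obtain ⟨p1, q1, rfl⟩ := hco b1 hb1p
    have hf : p0 * q1 - q0 * p1 ≠ 0 := by
      intro h0
      by_cases hp : p0 = 0
      · subst hp
        have hq0 : q0 ≠ 0 := fun h => hb0 (by rw [h, zero_smul, zero_smul, add_zero])
        have hp1 : p1 = 0 := (mul_eq_zero.1 (show q0 * p1 = 0 by linear_combination -h0)).resolve_left hq0
        refine hb1 (q1 / q0) ?_
        rw [hp1, smul_add, smul_smul, smul_smul, mul_zero, div_mul_cancel₀ _ hq0]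
      · refine hb1 (p1 / p0) ?_
        have hq1 : q1 = p1 / p0 * q0 := by field_simp; linear_combination h0
        rw [smul_add, smul_smul, smul_smul, div_mul_cancel₀ _ hp, ← hq1]
    intro b hb
    obtain ⟨p, q, rfl⟩ := hco b hb
    have hb' : p • ev m F + q • ev' m F =
        ((p * q1 - q * p1) * (p0 * q1 - q0 * p1)⁻¹) • (p0 • ev m F + q0 • ev' m F) +
          ((p0 * q - q0 * p) * (p0 * q1 - q0 * p1)⁻¹) • (p1 • ev m F + q1 • ev' m F) := by
      match_scalars
      · linear_combination (-p) * mul_inv_cancel₀ hf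
      · linear_combination (-q) * mul_inv_cancel₀ hf
    rw [hb']
    refine hb0T.line hb1T ?_ _ _
    have he : sympForm m F (p0 • ev m F + q0 • ev' m F) (p1 • ev m F + q1 • ev' m F) =
        p0 * q1 - q0 * p1 := by
      simp only [form_add_left, form_add_right, form_smul_left, form_smul_right, form_self,
        form_ev_ev', form_ev'_ev]
      ring
    rwa [he]
  by_cases hmixed : ∃ x : Fin m ⊕ Fin m → F, Tf ω x ∧ x ∉ Ust (ev m F) (ev' m F)
  · obtain ⟨x, hx, hxU⟩ := hmixed
    rw [mem_Ust_std, not_or] at hxU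
    have hb : x - (wproj x).1 ≠ 0 := fun h => hxU.1 (by rw [sub_eq_zero.1 h]; exact (wproj x).2)
    have h1 := (hmix hxU.2 (hbpart x) (by rwa [← hsum])).1
    refine false_of_all (F := F) (m := m) hne (ω := ω) fun y => ?_
    by_cases hya : wproj y = 0
    · exact hline y hya
    by_cases hyb : y - (wproj y).1 = 0
    · rw [sub_eq_zero.1 hyb]; exact hW _
    have hS : ∀ b : Fin m ⊕ Fin m → F, wproj b = 0 → InW ((Finset.univ : Finset (Fin m)).erase 0) b := by
      intro b hb j hj
      have hj0 := (Finset.mem_erase.1 hj).1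
      rw [decomp b, hb, Submodule.coe_zero, add_zero]
      simp [ev, ev', hj0]
    have hL' : transvectionSubgroupW ((Finset.univ : Finset (Fin m)).erase 0) F ≤
        MulAction.stabilizer (symplecticGroup (Fin m) F) ω := by
      refine (Subgroup.closure_le _).2 ?_
      rintro _ ⟨w, c, hw, rfl⟩
      refine hline w (eq_zero_of_forall_form_W fun a => ?_) c
      have hz : sympForm m F w a.1 = 0 := by
        rw [sympForm_eq_sum]
        refine Finset.sum_eq_zero fun i _ => ?_
        rcases eq_or_ne i 0 with rfl | hi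
        · simp [(a.2 0 (Finset.mem_singleton_self 0)).1, (a.2 0 (Finset.mem_singleton_self 0)).2]
        · simp [(hw i (Finset.mem_erase.2 ⟨hi, Finset.mem_univ i⟩)).1,
            (hw i (Finset.mem_erase.2 ⟨hi, Finset.mem_univ i⟩)).2]
      have h2 := form_add_left (F := F) (m := m) (wproj w).1 (w - (wproj w).1) a.1
      rw [← hsum, hz, form_swap a.1 (w - _), hperp a _ (hbpart _), neg_zero, add_zero] at h2
      exact h2.symm
    obtain ⟨g, hg, hgb⟩ := exists_smul_eq_inW (hS _ (hbpart x)) (hS _ (hbpart y)) hb hyb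
    have hga : g • (wproj y).1 = (wproj y).1 := fix_of_perp hg fun w hw => by
      rw [sympForm_eq_sum]
      refine Finset.sum_eq_zero fun i _ => ?_
      rcases eq_or_ne i 0 with rfl | hi
      · simp [((wproj y).2 0 (Finset.mem_singleton_self 0)).1,
          ((wproj y).2 0 (Finset.mem_singleton_self 0)).2]
      · simp [(hw i (Finset.mem_erase.2 ⟨hi, Finset.mem_univ i⟩)).1,
          (hw i (Finset.mem_erase.2 ⟨hi, Finset.mem_univ i⟩)).2]
    have := (h1 _ hya).of_stab (hL' hg)
    rwa [smul_add, hga, hgb, ← hsum] at this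
  · push Not at hmixed
    refine false_of_fix_Ust (F := F) (m := m) hm hq hd (ω := ω) fun g hg x hx => hmixed _ (Tf.of_stab ?_ hg)
    rw [mem_Ust_std] at hx
    rcases hx with hx | hx
    · exact hW ⟨x, hx⟩
    · exact hline x hx

end CfsgLib.MinIndexPSp
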