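import Cfsg.Agent.Lib.MinIndexPSp.Basic

/-!
Stabilisers in the unipotent radical `Q` of a point in an action of `Sp_{2m}(q)`: the central part
`Z0`, the image `Rb` in the perpendicular space and their annihilators.
-/

set_option autoImplicit false
set_option linter.unusedSectionVars false

namespace CfsgLib.MinIndexPSp

open Matrix Cfsg CfsgLib.Linear.Symp

variable {F : Type*} [Field F] {m : ℕ} [NeZero m]
variable {Ω : Type*} [MulAction (symplecticGroup (Fin m) F) Ω]

theorem xe_zero_mul (y z : F) (a : Wsp m F) : xe (0 : Wsp m F) y * xe a z = xe a (y + z) := by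
  rw [xe_mul, zero_add]
  congr 1
  simp [form_zero_right]

theorem xe_swap (a b : Wsp m F) (y z : F) :
    xe b y * xe a z = xe a (z + 2 * sympForm m F a.1 b.1) * xe b y := by
  rw [xe_mul, xe_mul, add_comm b a, form_swap a.1 b.1]
  congr 1
  ring

/-- The parameters of central elements fixing a point. -/
def Z0 (m : ℕ) [NeZero m] (F : Type*) [Field F] {Ω : Type*}
    [MulAction (symplecticGroup (Fin m) F) Ω] (ω : Ω) : AddSubgroup F where
  carrier := {z | xe (0 : Wsp m F) z • ω = ω}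
  add_mem' {a b} ha hb := by
    show xe (0 : Wsp m F) (a + b) • ω = ω
    rw [← xe_zero_mul, mul_smul, show xe (0 : Wsp m F) b • ω = ω from hb,
      show xe (0 : Wsp m F) a • ω = ω from ha]
  zero_mem' := by
    show xe (0 : Wsp m F) 0 • ω = ω
    rw [xe_one, one_smul]
  neg_mem' {a} ha := by
    show xe (0 : Wsp m F) (-a) • ω = ω
    conv_lhs => rw [← show xe (0 : Wsp m F) a • ω = ω from ha]
    rw [← mul_smul, xe_zero_mul, neg_add_cancel, xe_one, one_smul]

variable {ω : Ω}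

theorem mem_Z0 {z : F} : z ∈ Z0 m F ω ↔ xe (0 : Wsp m F) z • ω = ω := Iff.rfl

theorem mem_Z0_iff_tv {z : F} : z ∈ Z0 m F ω ↔ tv (ev m F) z • ω = ω := by rw [mem_Z0, xe_zero]

/-- The projection of the stabiliser in `Q`. -/
def Rb (m : ℕ) [NeZero m] (F : Type*) [Field F] {Ω : Type*}
    [MulAction (symplecticGroup (Fin m) F) Ω] (ω : Ω) : AddSubgroup (Wsp m F) where
  carrier := {a | ∃ z : F, xe a z • ω = ω}
  add_mem' := by
    rintro a b ⟨y, hy⟩ ⟨z, hz⟩
    exact ⟨_, by rw [← xe_mul a b y z, mul_smul, hz, hy]⟩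
  zero_mem' := ⟨0, by rw [xe_one, one_smul]⟩
  neg_mem' := by
    rintro a ⟨z, hz⟩
    exact ⟨-z, by rw [← xe_inv, inv_smul_eq_iff, hz]⟩

theorem mem_Rb {a : Wsp m F} : a ∈ Rb m F ω ↔ ∃ z : F, xe a z • ω = ω := Iff.rfl

theorem sub_mem_Z0 {a : Wsp m F} {y z : F} (hy : xe a y • ω = ω) (hz : xe a z • ω = ω) :
    y - z ∈ Z0 m F ω := by
  rw [mem_Z0]
  conv_lhs => rw [← hz]
  rw [← mul_smul, xe_zero_mul, sub_add_cancel, hy]

theorem commutator_mem_Z0 {a b : Wsp m F} (ha : a ∈ Rb m F ω) (hb : b ∈ Rb m F ω) :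
    2 * sympForm m F a.1 b.1 ∈ Z0 m F ω := by
  obtain ⟨z, hz⟩ := ha
  obtain ⟨y, hy⟩ := hb
  have h : xe a (z + 2 * sympForm m F a.1 b.1) • ω = ω := by
    have h1 : (xe b y * xe a z) • ω = ω := by rw [mul_smul, hz, hy]
    rwa [xe_swap, mul_smul, hy] at h1
  simpa using sub_mem_Z0 h hz

/-- The orbit of a point under `Q`. -/
def qo (m : ℕ) [NeZero m] (F : Type*) [Field F] {Ω : Type*}
    [MulAction (symplecticGroup (Fin m) F) Ω] (ω : Ω) : Set Ω :=
  {x | ∃ (a : Wsp m F) (z : F), xe a z • ω = x}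

theorem self_mem_qo : ω ∈ qo m F ω := ⟨0, 0, by rw [xe_one, one_smul]⟩

theorem qo_eq {x : Ω} (h : x ∈ qo m F ω) : qo m F x = qo m F ω := by
  obtain ⟨a, z, rfl⟩ := h
  ext y
  constructor
  · rintro ⟨b, w, rfl⟩
    exact ⟨_, _, by rw [← mul_smul, xe_mul]⟩
  · rintro ⟨b, w, rfl⟩
    refine ⟨b - a, w - z - sympForm m F a.1 (b - a : Wsp m F).1, ?_⟩
    rw [← mul_smul, xe_mul, sub_add_cancel]
    congr 2
    ring

theorem Z0_xe_smul (a : Wsp m F) (z : F) : Z0 m F (xe a z • ω) = Z0 m F ω := by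
  ext y
  rw [mem_Z0, mem_Z0, ← mul_smul, show xe (0 : Wsp m F) y * xe a z = xe a z * xe (0 : Wsp m F) y by
    rw [xe_swap a 0]; simp [form_zero_right], mul_smul, smul_left_cancel_iff]

theorem Rb_xe_smul (b : Wsp m F) (y : F) : Rb m F (xe b y • ω) = Rb m F ω := by
  ext a
  simp only [mem_Rb]
  constructor
  · rintro ⟨z, hz⟩
    refine ⟨z - 2 * sympForm m F a.1 b.1, (smul_left_cancel_iff (xe b y)).1 ?_⟩
    rw [← mul_smul, xe_swap a b, sub_add_cancel, mul_smul, hz]
  · rintro ⟨z, hz⟩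
    exact ⟨z + 2 * sympForm m F a.1 b.1, by rw [← mul_smul, ← xe_swap, mul_smul, hz]⟩

theorem Z0_eq_of_mem {x : Ω} (h : x ∈ qo m F ω) : Z0 m F x = Z0 m F ω := by
  obtain ⟨a, z, rfl⟩ := h; exact Z0_xe_smul a z

theorem Rb_eq_of_mem {x : Ω} (h : x ∈ qo m F ω) : Rb m F x = Rb m F ω := by
  obtain ⟨a, z, rfl⟩ := h; exact Rb_xe_smul a z

/-! ### Levi elements -/

section Lev

variable {g : symplecticGroup (Fin m) F} {l : F} (h : Lev g l)

include h in
theorem mem_Z0_lev {z : F} : l ^ 2 * z ∈ Z0 m F (g • ω) ↔ z ∈ Z0 m F ω := by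
  have h0 : g * xe (0 : Wsp m F) z = xe (0 : Wsp m F) (l ^ 2 * z) * g := by
    rw [lev_mul_xe h]
    congr 2
    exact Subtype.ext (by simp [Lev.act])
  rw [mem_Z0, mem_Z0, ← mul_smul, ← h0, mul_smul, smul_left_cancel_iff]

theorem mem_Rb_lev {a : Wsp m F} : l • h.act a ∈ Rb m F (g • ω) ↔ a ∈ Rb m F ω := by
  simp only [mem_Rb]
  constructor
  · rintro ⟨z, hz⟩
    refine ⟨(l ^ 2)⁻¹ * z, (smul_left_cancel_iff g).1 ?_⟩
    rw [← mul_smul, lev_mul_xe h, mul_inv_cancel_left₀ (pow_ne_zero 2 h.ne_zero), mul_smul, hz]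
  · rintro ⟨z, hz⟩
    exact ⟨l ^ 2 * z, by rw [← mul_smul, ← lev_mul_xe h, mul_smul, hz]⟩

include h in
theorem mem_qo_lev {x : Ω} (hx : x ∈ qo m F ω) : g • x ∈ qo m F (g • ω) := by
  obtain ⟨a, z, rfl⟩ := hx
  exact ⟨_, _, by rw [← mul_smul, ← lev_mul_xe h, mul_smul]⟩

theorem Lev.act_bijective : Function.Bijective h.act := by
  refine ⟨fun a b e => Subtype.ext ((smul_left_cancel_iff g).1 (congrArg Subtype.val e)), fun a => ?_⟩
  exact ⟨h.inv.act a, Subtype.ext (smul_inv_smul g a.1)⟩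

theorem Lev.act_add (a b : Wsp m F) : h.act (a + b) = h.act a + h.act b :=
  Subtype.ext (smul_add g a.1 b.1)

theorem Lev.act_smul (c : F) (a : Wsp m F) : h.act (c • a) = c • h.act a :=
  Subtype.ext (smul_comm g c a.1)

theorem Lev.act_zero : h.act 0 = 0 := Subtype.ext (smul_zero g)

theorem Lev.form_act (a b : Wsp m F) :
    sympForm m F (h.act a).1 (h.act b).1 = sympForm m F a.1 b.1 := form_smul_smul g _ _

end Lev

/-! ### Pairings -/

variable (χ : AddChar F ℂ)

/-- The pairing of `W` with itself. -/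
def pairW (y : Wsp m F) : AddChar (Wsp m F) ℂ :=
  χ.compAddMonoidHom
    { toFun := fun r => sympForm m F r.1 y.1
      map_zero' := form_zero_left _
      map_add' := fun a b => form_add_left a.1 b.1 y.1 }

theorem pairW_apply (y r : Wsp m F) : pairW χ y r = χ (sympForm m F r.1 y.1) := rfl

theorem pairW_add (x y : Wsp m F) : pairW χ (x + y) = pairW χ x * pairW χ y :=
  DFunLike.ext _ _ fun r => by
    rw [AddChar.mul_apply, pairW_apply, pairW_apply, pairW_apply, ← AddChar.map_add_eq_mul,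
      Submodule.coe_add, form_add_right]

theorem mulShift_add (x y : F) : χ.mulShift (x + y) = χ.mulShift x * χ.mulShift y :=
  DFunLike.ext _ _ fun r => by
    rw [AddChar.mul_apply, AddChar.mulShift_apply, AddChar.mulShift_apply, AddChar.mulShift_apply,
      add_mul, AddChar.map_add_eq_mul]

variable (hχ : χ ≠ 1)

include hχ in
theorem eq_zero_of_char {c : F} (h : ∀ b : F, χ (c * b) = 1) : c = 0 := by
  by_contra hc
  exact hχ (DFunLike.ext _ _ fun t => by
    have := h (c⁻¹ * t); rwa [mul_inv_cancel_left₀ hc] at this)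

include hχ in
theorem mulShift_injective : Function.Injective χ.mulShift := fun x y h => by
  refine sub_eq_zero.1 (eq_zero_of_char χ hχ fun b => ?_)
  have := DFunLike.congr_fun h b
  rw [AddChar.mulShift_apply, AddChar.mulShift_apply] at this
  rw [sub_mul, AddChar.map_sub_eq_div, this, div_self (χ.val_isUnit _).ne_zero]

include hχ in
theorem pairW_injective : Function.Injective (pairW (m := m) χ) := fun x y h => by
  refine sub_eq_zero.1 (eq_zero_of_forall_form_W fun b => eq_zero_of_char χ hχ fun c => ?_)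
  have := DFunLike.congr_fun h (-(c • b))
  rw [pairW_apply, pairW_apply, Submodule.coe_neg, Submodule.coe_smul, form_neg_left, form_neg_left,
    form_smul_left, form_smul_left] at this
  have h1 : sympForm m F (x - y : Wsp m F).1 b.1 * c =
      -(c * sympForm m F b.1 x.1) - -(c * sympForm m F b.1 y.1) := by
    rw [Submodule.coe_sub, form_sub_left, form_swap b.1 x.1, form_swap b.1 y.1]; ring
  rw [h1, AddChar.map_sub_eq_div, this, div_self (χ.val_isUnit _).ne_zero]

/-- The annihilator of `Rb`. -/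
def An (m : ℕ) [NeZero m] {F : Type*} [Field F] {Ω : Type*}
    [MulAction (symplecticGroup (Fin m) F) Ω] (χ : AddChar F ℂ) (ω : Ω) : AddSubgroup (Wsp m F) := dualAnn (pairW χ) (pairW_add χ) (Rb m F ω)

theorem mem_An {y : Wsp m F} :
    y ∈ An m χ ω ↔ ∀ r ∈ Rb m F ω, χ (sympForm m F r.1 y.1) = 1 := Iff.rfl

/-- The annihilator of `Z0`. -/
def AnF (m : ℕ) [NeZero m] {F : Type*} [Field F] {Ω : Type*}
    [MulAction (symplecticGroup (Fin m) F) Ω] (χ : AddChar F ℂ) (ω : Ω) : AddSubgroup F := dualAnn χ.mulShift (mulShift_add χ) (Z0 m F ω)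

theorem mem_AnF {y : F} : y ∈ AnF m χ ω ↔ ∀ z ∈ Z0 m F ω, χ (y * z) = 1 := Iff.rfl

theorem An_eq_of_mem {x : Ω} (h : x ∈ qo m F ω) : An m χ x = An m χ ω := by
  ext y; rw [mem_An, mem_An, Rb_eq_of_mem h]

theorem mem_An_lev {g : symplecticGroup (Fin m) F} {l : F} (h : Lev g l) {y : Wsp m F} :
    l⁻¹ • h.act y ∈ An m χ (g • ω) ↔ y ∈ An m χ ω := by
  have key : ∀ r : Wsp m F,
      sympForm m F (l • h.act r).1 (l⁻¹ • h.act y).1 = sympForm m F r.1 y.1 := fun r => by
    rw [Submodule.coe_smul, Submodule.coe_smul, form_smul_left, form_smul_right, h.form_act,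
      mul_inv_cancel_left₀ h.ne_zero]
  simp only [mem_An]
  constructor
  · intro hy r hr
    rw [← key]
    exact hy _ ((mem_Rb_lev h).2 hr)
  · intro hy r hr
    obtain ⟨s, rfl⟩ : ∃ s, l • h.act s = r := by
      obtain ⟨s, hs⟩ := h.act_bijective.2 (l⁻¹ • r)
      exact ⟨s, by rw [hs, smul_smul, mul_inv_cancel₀ h.ne_zero, one_smul]⟩
    rw [key]
    exact hy _ ((mem_Rb_lev h).1 hr)

theorem card_An_lev {g : symplecticGroup (Fin m) F} {l : F} (h : Lev g l) :
    Nat.card (An m χ (g • ω)) = Nat.card (An m χ ω) := by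
  symm
  refine Nat.card_congr (Equiv.ofBijective
    (fun y => ⟨l⁻¹ • h.act y.1, (mem_An_lev χ h).2 y.2⟩) ⟨fun a b e => ?_, fun y => ?_⟩)
  · exact Subtype.ext (h.act_bijective.1 (smul_right_injective _ (inv_ne_zero h.ne_zero)
      (congrArg Subtype.val e)))
  · obtain ⟨s, hs⟩ := h.act_bijective.2 (l • y.1)
    have e : l⁻¹ • h.act s = y.1 := by rw [hs, smul_smul, inv_mul_cancel₀ h.ne_zero, one_smul]
    exact ⟨⟨s, (mem_An_lev χ h).1 (by rw [e]; exact y.2)⟩, Subtype.ext e⟩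

variable [Finite F]

include hχ in
theorem card_An (ω : Ω) : Nat.card (An m χ ω) = Nat.card (Wsp m F ⧸ Rb m F ω) :=
  card_dualAnn _ _ (pairW_injective χ hχ) _

include hχ in
theorem card_AnF (ω : Ω) : Nat.card (AnF m χ ω) = Nat.card (F ⧸ Z0 m F ω) :=
  card_dualAnn _ _ (mulShift_injective χ hχ) _

include hχ in
theorem mem_Rb_of_forall {a : Wsp m F} (h : ∀ y ∈ An m χ ω, χ (sympForm m F a.1 y.1) = 1) :
    a ∈ Rb m F ω :=
  mem_of_forall_dualAnn (pairW χ) (pairW_add χ) (pairW_injective χ hχ) _ h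

include hχ in
theorem mem_Z0_of_forall {z : F} (h : ∀ y ∈ AnF m χ ω, χ (y * z) = 1) : z ∈ Z0 m F ω :=
  mem_of_forall_dualAnn χ.mulShift (mulShift_add χ) (mulShift_injective χ hχ) _ h

theorem card_Rb_mul_card_An (hχ : χ ≠ 1) (ω : Ω) :
    Nat.card (An m χ ω) * Nat.card (Rb m F ω) = Nat.card F ^ (2 * (m - 1)) := by
  rw [card_An χ hχ, ← AddSubgroup.index_eq_card, mul_comm, AddSubgroup.card_mul_index, card_Wsp]

theorem card_le_card_qo [Finite Ω] (ω : Ω) :
    Nat.card (F ⧸ Z0 m F ω) * Nat.card (Wsp m F ⧸ Rb m F ω) ≤ Nat.card (qo m F ω) := by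
  rw [← Nat.card_prod]
  refine Nat.card_le_card_of_injective
    (fun p => (⟨xe p.2.out p.1.out • ω, _, _, rfl⟩ : qo m F ω)) ?_
  rintro ⟨z, a⟩ ⟨z', a'⟩ e
  have e' : xe a.out z.out • ω = xe a'.out z'.out • ω := congrArg Subtype.val e
  have h1 : ((xe a'.out z'.out)⁻¹ * xe a.out z.out) • ω = ω := by
    rw [mul_smul, e', inv_smul_smul]
  rw [xe_inv, xe_mul] at h1
  have ha : a = a' := by
    rw [← QuotientAddGroup.out_eq' a, ← QuotientAddGroup.out_eq' a', eq_comm, QuotientAddGroup.eq]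
    exact ⟨_, h1⟩
  subst ha
  rw [neg_add_cancel] at h1
  have hz : z = z' := by
    rw [← QuotientAddGroup.out_eq' z, ← QuotientAddGroup.out_eq' z', eq_comm, QuotientAddGroup.eq]
    simpa [mem_Z0, form_neg_right, form_self] using h1
  subst hz
  rfl

include hχ in
theorem card_Rb_le_card_An (h2 : (2 : F) ≠ 0) (hω : Z0 m F ω ≠ ⊤) :
    Nat.card (Rb m F ω) ≤ Nat.card (An m χ ω) := by
  obtain ⟨y, hy, hy0⟩ : ∃ y ∈ AnF m χ ω, y ≠ 0 := by
    by_contra hcon
    push Not at hcon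
    refine hω (eq_top_iff.2 fun z _ => mem_Z0_of_forall χ hχ fun y hy => ?_)
    rw [hcon y hy, zero_mul, AddChar.map_zero_eq_one]
  refine Nat.card_le_card_of_injective
    (fun r => (⟨(2 * y) • r.1, fun s hs => ?_⟩ : An m χ ω)) fun a b e => ?_
  · rw [pairW_apply, Submodule.coe_smul, form_smul_right,
      show 2 * y * sympForm m F s.1 r.1.1 = y * (2 * sympForm m F s.1 r.1.1) by ring]
    exact hy _ (commutator_mem_Z0 hs r.2)
  · exact Subtype.ext (smul_right_injective _ (mul_ne_zero h2 hy0) (congrArg Subtype.val e))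

end CfsgLib.MinIndexPSp
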