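import Cfsg.Agent.Lib.MinIndexPSp.Geo
import Cfsg.Agent.Lib.MinIndexPSp.Stab

/-!
Points fixed by one full transvection group: the dimension four case and the case of few points
fixed by the centre of the unipotent radical.
-/

set_option autoImplicit false
set_option linter.unusedSectionVars false

namespace CfsgLib.MinIndexPSp

open Matrix Cfsg CfsgLib.Linear.Symp

variable {F : Type*} [Field F] {m : ℕ}
variable {Ω : Type*} [MulAction (symplecticGroup (Fin m) F) Ω]
variable [Finite Ω] [MulAction.IsPretransitive (symplecticGroup (Fin m) F) Ω] [Finite F] [NeZero m]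

/-- The vectors of a point span one line: impossible. -/
theorem false_of_subset_line (hd : Nat.card Ω * (Nat.card F - 1) + 1 < Nat.card F ^ (2 * m))
    {ω : Ω} {v : Fin m ⊕ Fin m → F} (hv : v ≠ 0) (hT : Tf ω v)
    (h : ∀ x : Fin m ⊕ Fin m → F, Tf ω x → ∃ c : F, x = c • v) : False :=
  false_of_fix_point hd hv fun _ hg => h _ (hT.of_stab hg)

theorem exists_W_pair (hm : 2 ≤ m) :
    ∃ E E' : Wsp m F, sympForm m F E.1 E'.1 = 1 := by
  obtain ⟨a, ha⟩ := exists_W_ne_zero (F := F) hm
  obtain ⟨b, hb⟩ := exists_form_W_eq ha (1 : F)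
  exact ⟨a, b, hb⟩

theorem W_coords_two (hm : m = 2) {E E' : Wsp m F} (h : sympForm m F E.1 E'.1 = 1) (w : Wsp m F) :
    ∃ a b : F, w.1 = a • E.1 + b • E'.1 := by
  let L : F × F → Wsp m F := fun st => st.1 • E + st.2 • E'
  have hLi : Function.Injective L := by
    rintro ⟨a, b⟩ ⟨c, d⟩ e
    have e' : a • E.1 + b • E'.1 = c • E.1 + d • E'.1 := congrArg Subtype.val e
    have e1 := congrArg (fun x => sympForm m F E.1 x) e'
    have e2 := congrArg (fun x => sympForm m F x E'.1) e'
    simp only [form_add_right, form_smul_right, form_self, h, form_add_left, form_smul_left,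
      mul_zero, mul_one, zero_add, add_zero] at e1 e2
    rw [e1, e2]
  have hb : Function.Bijective L := (Nat.bijective_iff_injective_and_card L).2 ⟨hLi, by
    rw [Nat.card_prod, card_Wsp, hm, ← sq]⟩
  obtain ⟨⟨a, b⟩, he⟩ := hb.2 w
  exact ⟨a, b, by rw [← he]; rfl⟩

/-- In dimension four no full transvection group fixes a point. -/
theorem false_two (hm : m = 2) (hq : 3 ≤ Nat.card F) (hne : 1 < Nat.card Ω)
    (hd : Nat.card Ω * (Nat.card F - 1) + 1 < Nat.card F ^ (2 * m))
    {ω : Ω} {v : Fin m ⊕ Fin m → F} (hv : v ≠ 0) (hT : Tf ω v) : False := by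
  classical
  obtain ⟨E, E', hE⟩ := exists_W_pair (F := F) (m := m) (by omega)
  have hperp : ∀ x y : Fin m ⊕ Fin m → F, Tf ω x → Tf ω y → sympForm m F x y = 0 := by
    intro x y hx hy
    by_contra hxy
    obtain ⟨g, hgx, hgy⟩ := exists_smul_pair (u := x) (v := (sympForm m F x y)⁻¹ • y)
      (by rw [form_smul_right, inv_mul_cancel₀ hxy]) hE
    have hE1 : Tf (g • ω) E.1 := hgx ▸ (tf_smul_iff g).2 hx
    have hE2 : Tf (g • ω) E'.1 := hgy ▸ (tf_smul_iff g).2 (hy.smul _)
    refine false_of_full_W (F := F) (m := m) (by omega) hq hne hd (ω := g • ω) fun w => ?_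
    obtain ⟨a, b, hab⟩ := W_coords_two hm hE w
    rw [hab]
    exact hE1.line hE2 (by rw [hE]; exact one_ne_zero) a b
  by_cases hline : ∀ x : Fin m ⊕ Fin m → F, Tf ω x → ∃ c : F, x = c • v
  · exact false_of_subset_line hd hv hT hline
  push Not at hline
  obtain ⟨y, hy, hyv⟩ := hline
  have hEz : E ≠ 0 := fun h => by simp [h, form_zero_left] at hE
  obtain ⟨g, hgv, hgy⟩ := exists_map_perp_pair (by omega) hv (fun t e => hyv t e.symm) (hperp v y hT hy)
    ev_ne_zero (ev_ne_smul_W hEz) (form_ev_W E)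
  have hTe : Tf (g • ω) (ev m F) := hgv ▸ (tf_smul_iff g).2 hT
  have hTE : Tf (g • ω) E.1 := hgy ▸ (tf_smul_iff g).2 hy
  let X : Submodule F (Fin m ⊕ Fin m → F) := Submodule.span F {ev m F, E.1}
  have hperp' : ∀ x z : Fin m ⊕ Fin m → F, Tf (g • ω) x → Tf (g • ω) z → sympForm m F x z = 0 := by
    intro x z hx hz
    rw [← smul_inv_smul g x, ← smul_inv_smul g z, form_smul_smul]
    refine hperp _ _ ((tf_smul_iff g).1 ?_) ((tf_smul_iff g).1 ?_) <;> rwa [smul_inv_smul]
  have hTX : ∀ x : Fin m ⊕ Fin m → F, Tf (g • ω) x → x ∈ X := by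
    intro x hx
    have h1 : sympForm m F x (ev m F) = 0 := hperp' _ _ hx hTe
    have h2 : sympForm m F x E.1 = 0 := hperp' _ _ hx hTE
    obtain ⟨a, b, hab⟩ := W_coords_two hm hE (wproj x)
    have hx' := decomp x
    rw [h1, zero_smul, sub_zero, hab] at hx'
    have hb : b = 0 := by
      rw [hx', form_add_left, form_smul_left, form_ev_W, form_add_left, form_smul_left, form_self,
        form_smul_left, form_swap E.1 E'.1, hE] at h2
      linear_combination -h2
    rw [hb, zero_smul, add_zero] at hx'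
    rw [hx']
    exact Submodule.mem_span_pair.2 ⟨_, _, rfl⟩
  -- the stabiliser of the plane
  have hXiso : ∀ a ∈ X, ∀ b ∈ X, sympForm m F a b = 0 := by
    intro a ha b hb
    obtain ⟨a1, a2, rfl⟩ := Submodule.mem_span_pair.1 ha
    obtain ⟨b1, b2, rfl⟩ := Submodule.mem_span_pair.1 hb
    simp [form_add_left, form_add_right, form_smul_left, form_smul_right, form_self, form_ev_W,
      form_W_ev]
  have hXk : Module.finrank F X = 2 := by
    have hli : LinearIndependent F ![ev m F, E.1] := by
      rw [LinearIndependent.pair_iff' ev_ne_zero]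
      exact ev_ne_smul_W hEz
    have := finrank_span_eq_card hli
    rwa [Matrix.range_cons, Matrix.range_cons, Matrix.range_empty, Set.union_empty,
      Set.singleton_union, Fintype.card_fin] at this
  have hle : MulAction.stabilizer (symplecticGroup (Fin m) F) (g • ω) ≤
      stabilizing (spToMat m F) (X : Set (Fin m ⊕ Fin m → F)) := by
    intro k hk
    refine CfsgLib.SympGeom.stab_image_self X fun x hx => ?_
    obtain ⟨a, b, rfl⟩ := Submodule.mem_span_pair.1 hx
    rw [← smul_def, smul_add, smul_comm k, smul_comm k]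
    exact add_mem (X.smul_mem _ (hTX _ (hTe.of_stab hk))) (X.smul_mem _ (hTX _ (hTE.of_stab hk)))
  have h1 := Nat.le_of_dvd (Nat.pos_of_ne_zero Subgroup.index_ne_zero_of_finite)
    (Subgroup.index_dvd_of_le hle)
  rw [MulAction.index_stabilizer_of_transitive] at h1
  have : Fintype F := Fintype.ofFinite F
  have h2 := (stabilizing (spToMat m F) (X : Set (Fin m ⊕ Fin m → F))).index_mul_card
  rw [CfsgLib.SympGeom.card_stab_totallyIsotropic (by omega) X hXk hXiso, card_symplectic,
    ← Nat.card_eq_fintype_card] at h2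
  generalize (stabilizing (spToMat m F) (X : Set (Fin m ⊕ Fin m → F))).index = idx at h1 h2
  simp only [hm] at h2 hd
  simp [Fin.prod_univ_two, Finset.prod_range_succ, -Nat.card_eq_fintype_card] at h2
  obtain ⟨r, hr⟩ : ∃ r, Nat.card F = r + 1 := ⟨Nat.card F - 1, by omega⟩
  rw [hr] at hd h2
  have hp1 : (r + 1) ^ 2 - 1 = r * (r + 2) := by
    have : (r + 1) ^ 2 = r * (r + 2) + 1 := by ring
    omega
  have hp2 : (r + 1) ^ 2 - (r + 1) = (r + 1) * r := by
    have : (r + 1) ^ 2 = (r + 1) * r + (r + 1) := by ring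
    omega
  have hp4 : (r + 1) ^ 4 - 1 = r * (r + 2) * ((r + 1) ^ 2 + 1) := by
    have : (r + 1) ^ 4 = r * (r + 2) * ((r + 1) ^ 2 + 1) + 1 := by ring
    omega
  rw [hp1, hp2, hp4] at h2
  simp only [Nat.add_sub_cancel, show 2 * 2 = 4 from rfl] at hd
  have hpos : 0 < (r + 1) ^ 4 * (r * (r + 2)) := by
    have : 0 < r := by omega
    positivity
  have h3 : idx * r =
      r * (r + 2) * ((r + 1) ^ 2 + 1) := by
    refine Nat.eq_of_mul_eq_mul_left hpos ?_
    linear_combination h2
  have h4 := Nat.mul_le_mul_right r h1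
  have : (r + 1) ^ 4 = r * (r + 2) * ((r + 1) ^ 2 + 1) + 1 := by ring
  omega

/-- When few points are fixed by the centre, no full transvection group fixes a point. -/
theorem false_few (hm : 2 ≤ m) (hne : 1 < Nat.card Ω)
    (hd : Nat.card Ω * (Nat.card F - 1) + 1 < Nat.card F ^ (2 * m))
    (hfew : Nat.card {x : Ω // Z0 m F x = ⊤} ≤ Nat.card F)
    (hQ : ∀ x : Ω, Z0 m F x = ⊤ → ∀ (a : Wsp m F) (z : F), xe a z • x = x)
    {ω : Ω} {v : Fin m ⊕ Fin m → F} (hv : v ≠ 0) (hT : Tf ω v) : False := by
  classical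
  have hfix : ∀ (x : Ω), Tf x (ev m F) → Z0 m F x = ⊤ := fun x h =>
    eq_top_iff.2 fun c _ => mem_Z0_iff_tv.2 (h c)
  -- a nonperpendicular pair spreads
  have hspread : ∀ (x : Ω) (p y : Fin m ⊕ Fin m → F), Tf x p → Tf x y → sympForm m F y p ≠ 0 →
      ∀ z : Fin m ⊕ Fin m → F, sympForm m F z p ≠ 0 → Tf x z := by
    intro x p y hp hy hyp z hz
    have hp0 : p ≠ 0 := fun h => hyp (by rw [h, form_zero_right])
    obtain ⟨g, hgp⟩ := exists_smul_eq_of_ne_zero hp0 (ev_ne_zero (F := F) (m := m))
    have he : Tf (g • x) (ev m F) := hgp ▸ (tf_smul_iff g).2 hp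
    have hQx := hQ _ (hfix _ he)
    rw [← tf_smul_iff g]
    set y' := g • y
    set z' := g • z
    have hy' : sympForm m F y' (ev m F) ≠ 0 := by rwa [← hgp, form_smul_smul]
    have hz' : sympForm m F z' (ev m F) ≠ 0 := by rwa [← hgp, form_smul_smul]
    set s := sympForm m F z' (ev m F) / sympForm m F y' (ev m F)
    have hsy : sympForm m F (s • y') (ev m F) = sympForm m F z' (ev m F) := by
      rw [form_smul_left, div_mul_cancel₀ _ hy']
    have hTy : Tf (g • x) (s • y') := ((tf_smul_iff g).2 hy).smul s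
    set f := sympForm m F z' (ev m F)
    set a : Wsp m F := f⁻¹ • wproj (z' - s • y')
    have key : xe a ((sympForm m F (z' - s • y') (ev' m F) - sympForm m F (s • y') a.1) / f) •
        (s • y') = z' := by
      rw [xe_smul, hsy, div_mul_cancel₀ _ hz', add_sub_cancel, Submodule.coe_smul, smul_smul,
        mul_inv_cancel₀ hz', one_smul]
      have hd' := decomp (z' - s • y')
      rw [form_sub_left z' (s • y') (ev m F), hsy, sub_self, zero_smul, sub_zero] at hd'
      rw [add_assoc, add_comm (wproj _).1, ← hd', add_sub_cancel]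
    rw [← key]
    exact hTy.of_stab (hQx _ _)
  have hperp : ∀ x y : Fin m ⊕ Fin m → F, Tf ω x → Tf ω y → sympForm m F y x = 0 := by
    intro p y hp hy
    by_contra hyp
    have hall := hspread ω p y hp hy hyp
    refine false_of_all (F := F) (m := m) hne (ω := ω) fun x => ?_
    by_cases hx : sympForm m F x p = 0
    · by_cases hx0 : x = 0
      · rw [hx0, ← zero_smul F p]; exact hp.smul 0
      have hp0 : p ≠ 0 := fun h => hyp (by rw [h, form_zero_right])
      obtain ⟨z, hz1, hz2⟩ := exists_form_ne_zero_two hp0 hx0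
      have hzT : Tf ω z := hall z (by rwa [form_swap, neg_ne_zero])
      exact hspread ω z p hzT hp hz1 x hz2
    · exact hall x hx
  by_cases hline : ∀ x : Fin m ⊕ Fin m → F, Tf ω x → ∃ c : F, x = c • v
  · exact false_of_subset_line hd hv hT hline
  push Not at hline
  obtain ⟨y, hy, hyv⟩ := hline
  obtain ⟨E, E', hE⟩ := exists_W_pair (F := F) (m := m) hm
  have hE' : sympForm m F E'.1 E.1 = -1 := by rw [form_swap, hE]
  let u : Option F → Wsp m F := fun i => i.elim E' fun s => E + s • E'
  have hu : ∀ i j, i ≠ j → sympForm m F (u i).1 (u j).1 ≠ 0 := by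
    rintro (_ | s) (_ | t) hij
    · exact absurd rfl hij
    · simp [u, form_add_right, form_smul_right, form_self, hE']
    · simp [u, form_add_left, form_smul_left, form_self, hE]
    · have : sympForm m F (u (some s)).1 (u (some t)).1 = t - s := by
        simp [u, form_add_left, form_add_right, form_smul_left, form_smul_right, form_self, hE, hE']
        ring
      rw [this]
      exact sub_ne_zero.2 fun e => hij (by rw [e])
  have hu0 : ∀ i, u i ≠ 0 := by
    intro i h
    obtain ⟨j, hj⟩ : ∃ j : Option F, j ≠ i := by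
      rcases i with _ | s
      · exact ⟨some 0, by simp⟩
      · exact ⟨none, by simp⟩
    exact hu j i hj (by rw [h, Submodule.coe_zero, form_zero_right])
  choose g hg1 hg2 using fun i => exists_map_perp_pair hm hv (fun t e => hyv t e.symm)
    (hperp y v hy hT) ev_ne_zero (ev_ne_smul_W (hu0 i)) (form_ev_W (u i))
  have hTu : ∀ i, Tf (g i • ω) (u i).1 := fun i => hg2 i ▸ (tf_smul_iff (g i)).2 hy
  have hmem : ∀ i, Z0 m F (g i • ω) = ⊤ := fun i => hfix _ (hg1 i ▸ (tf_smul_iff (g i)).2 hT)
  have hinj : Function.Injective fun i => (⟨g i • ω, hmem i⟩ : {x : Ω // Z0 m F x = ⊤}) := by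
    intro i j e
    by_contra hij
    have e' : g i • ω = g j • ω := congrArg Subtype.val e
    have h1 := hTu i
    have h2 := hTu j
    rw [← e'] at h2
    rw [← smul_inv_smul (g i) (u i).1, tf_smul_iff] at h1
    rw [← smul_inv_smul (g i) (u j).1, tf_smul_iff] at h2
    have h3 := hperp _ _ h2 h1
    rw [form_smul_smul] at h3
    exact hu i j hij h3
  have := (Nat.card_le_card_of_injective _ hinj).trans hfew
  rw [Finite.card_option] at this
  omega

end CfsgLib.MinIndexPSp
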