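import Cfsg.Agent.Lib.MinIndexPSp.Dich
import Cfsg.Agent.Lib.MinIndexPSp.Isotropic

/-!
The minimal degree of a transitive action of `Sp_{2m}(q)` and of `PSp_{2m}(q)`, `q ≥ 3`,
`(m, q) ≠ (2, 3)`.
-/

set_option autoImplicit false
set_option linter.unusedSectionVars false

namespace CfsgLib.MinIndexPSp

open Matrix Cfsg CfsgLib.Linear.Symp
open scoped LinearAlgebra.Projectivization

variable {F : Type*} [Field F] {m : ℕ} [NeZero m]
variable {Ω : Type*} [MulAction (symplecticGroup (Fin m) F) Ω]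

theorem amul (g h : symplecticGroup (Fin m) F) (x : Ω) : g • h • x = (g * h) • x :=
  (mul_smul g h x).symm

theorem sub_mem_Rb {x : Ω} {a b : Wsp m F} {y z : F} (h : xe a y • x = xe b z • x) :
    -b + a ∈ Rb m F x := by
  have h1 : ((xe b z)⁻¹ * xe a y) • x = x := by rw [mul_smul, h, inv_smul_smul]
  rw [xe_inv, xe_mul] at h1
  exact mem_Rb.2 ⟨_, h1⟩

theorem lev_comm_central {g : symplecticGroup (Fin m) F} (h : Lev g 1) (s : F) :
    g * xe (0 : Wsp m F) s = xe (0 : Wsp m F) s * g := by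
  rw [lev_mul_xe h, one_smul, h.act_zero, one_pow, one_mul]

/-- Conjugating a lifted transvection by a lifted Levi element. -/
theorem tv_conj_lift {x : Ω} {g : symplecticGroup (Fin m) F} (hg : Lev g 1) {σ s : F}
    (hgx : g • x = xe (0 : Wsp m F) σ • x) {w : Wsp m F} {c : F}
    (hw : tv w.1 c • x = xe (0 : Wsp m F) s • x) :
    tv (g • w.1) c • x = xe (0 : Wsp m F) s • x := by
  have hinv : g⁻¹ • x = xe (0 : Wsp m F) (-σ) • x := by
    rw [inv_smul_eq_iff, ← mul_smul, lev_comm_central hg, mul_smul, hgx, ← mul_smul, xe_zero_mul,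
      neg_add_cancel, xe_one, one_smul]
  have hL : Lev (tv w.1 c : symplecticGroup (Fin m) F) 1 := lev_of_mem (tv_mem_W w.2 c)
  calc tv (g • w.1) c • x = g • tv w.1 c • g⁻¹ • x := by rw [← tv_conj, mul_smul, mul_smul]
    _ = g • tv w.1 c • xe (0 : Wsp m F) (-σ) • x := by rw [hinv]
    _ = g • xe (0 : Wsp m F) (-σ) • tv w.1 c • x := by
      rw [amul (tv w.1 c), lev_comm_central hL, mul_smul]
    _ = g • xe (0 : Wsp m F) (-σ + s) • x := by rw [hw, amul (xe _ _), xe_zero_mul]
    _ = xe (0 : Wsp m F) (-σ + s) • g • x := by rw [amul g, lev_comm_central hg, mul_smul]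
    _ = xe (0 : Wsp m F) s • x := by
      rw [hgx, amul (xe _ _), xe_zero_mul]
      congr 2
      ring

variable [Finite F]

/-- A root group with lifts fixes the point when the field has at least four elements. -/
theorem tf_of_lift (hq : 4 ≤ Nat.card F) {x : Ω} {w : Wsp m F} (hw : w ≠ 0)
    (hlift : ∀ c : F, ∃ s : F, tv w.1 c • x = xe (0 : Wsp m F) s • x)
    (hmove : ∀ (g : symplecticGroup (Fin m) F) (μ : F), μ ≠ 0 → Lev g 1 → g • w.1 = μ • w.1 →
      ∃ s : F, g • x = xe (0 : Wsp m F) s • x) :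
    Tf x w.1 := by
  obtain ⟨μ, hμ, hμ2⟩ := CfsgLib.Linear.exists_sq_ne_one_of_four_le_card (F := F) hq
  obtain ⟨g, hg, hgw⟩ := exists_lev_smul_eq hw (b := μ • w) (smul_ne_zero hμ hw)
  rw [Submodule.coe_smul] at hgw
  obtain ⟨σ, hσ⟩ := hmove g μ hμ hg hgw
  intro c
  obtain ⟨s, hs⟩ := hlift (c / (μ ^ 2 - 1))
  have h1 := tv_conj_lift hg hσ hs
  rw [hgw, tv_smul_vec, ← hs,
    show μ * μ * (c / (μ ^ 2 - 1)) = c / (μ ^ 2 - 1) + c by field_simp [sub_ne_zero.2 hμ2]; ring,
    ← tv_add, mul_smul, smul_left_cancel_iff] at h1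
  exact h1

theorem card_three_facts (hq : Nat.card F = 3) :
    (3 : F) = 0 ∧ ∀ c : F, c = 0 ∨ c = 1 ∨ c = -1 := by
  have : Fintype F := Fintype.ofFinite F
  rw [Nat.card_eq_fintype_card] at hq
  refine ⟨?_, fun c => ?_⟩
  · have := FiniteField.cast_card_eq_zero F
    rw [hq] at this
    exact_mod_cast this
  · by_cases hc : c = 0
    · exact Or.inl hc
    right
    have hpow := FiniteField.pow_card_sub_one_eq_one c hc
    rw [hq] at hpow
    exact sq_eq_one_iff.1 hpow

/-- The case of three elements: the relation on a totally isotropic plane. -/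
theorem tf_of_lift_three (hq : Nat.card F = 3) (hm : 3 ≤ m) {x : Ω} (hZ : Z0 m F x = ⊥)
    (hlift : ∀ g : symplecticGroup (Fin m) F, Lev g 1 → ∃ s : F, g • x = xe (0 : Wsp m F) s • x)
    (w : Wsp m F) : Tf x w.1 := by
  obtain ⟨h3, hcases⟩ := card_three_facts hq
  let i1 : Fin m := ⟨1, by omega⟩
  let i2 : Fin m := ⟨2, by omega⟩
  have hi1 : i1 ∉ ({0} : Finset (Fin m)) := by simp [i1, Fin.ext_iff]
  have hi2 : i2 ∉ ({0} : Finset (Fin m)) := by simp [i2, Fin.ext_iff]
  let a : Wsp m F := ⟨Pi.single (.inl i1) 1, (inW_single hi1).1⟩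
  let b : Wsp m F := ⟨Pi.single (.inl i2) 1, (inW_single hi2).1⟩
  have hab : sympForm m F a.1 b.1 = 0 := by simp [a, b, form_single_inl]
  have hne : ∀ v : Wsp m F, v.1 (.inl i1) ≠ 0 ∨ v.1 (.inl i2) ≠ 0 → v ≠ 0 := fun v h e => by
    subst e; simp at h
  have ha0 : a ≠ 0 := hne _ (Or.inl (by simp [a]))
  obtain ⟨s, hs⟩ := hlift (tv a.1 1) (lev_of_mem (tv_mem_W a.2 1))
  have hall : ∀ v : Wsp m F, v ≠ 0 → tv v.1 1 • x = xe (0 : Wsp m F) s • x := by
    intro v hv
    obtain ⟨g, hg, hgv⟩ := exists_lev_smul_eq ha0 hv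
    obtain ⟨σ, hσ⟩ := hlift g hg
    have := tv_conj_lift hg hσ hs
    rwa [hgv] at this
  have hs0 : s = 0 := by
    have hrel := tv_relation_plane hab
    simp only [show (-2 : F) = 1 by linear_combination -h3] at hrel
    have h1 := hall (a + b) (hne _ (Or.inl (by simp [a, b, i1, i2, Fin.ext_iff])))
    have h2 := hall (a - b) (hne _ (Or.inl (by simp [a, b, i1, i2, Fin.ext_iff])))
    have h3' := hall a ha0
    have h4 := hall b (hne _ (Or.inr (by simp [b])))
    have hc : ∀ v : Wsp m F, v ≠ 0 → ∀ r : F,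
        tv v.1 1 • xe (0 : Wsp m F) r • x = xe (0 : Wsp m F) (r + s) • x := by
      intro v hv r
      rw [← mul_smul, lev_comm_central (lev_of_mem (tv_mem_W v.2 1)), mul_smul, hall v hv, ← mul_smul,
        xe_zero_mul]
    have h := congrArg (fun g => g • x) hrel
    simp only [mul_smul, one_smul] at h
    rw [h4, hc a ha0, ← Submodule.coe_sub, hc (a - b) (hne _ (Or.inl (by simp [a, b, i1, i2, Fin.ext_iff]))),
      ← Submodule.coe_add, hc (a + b) (hne _ (Or.inl (by simp [a, b, i1, i2, Fin.ext_iff]))),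
      ← mem_Z0, hZ, AddSubgroup.mem_bot] at h
    linear_combination h - s * h3
  intro c
  by_cases hw : w = 0
  · subst hw
    rw [Submodule.coe_zero, show tv (0 : Fin m ⊕ Fin m → F) c = 1 from group_ext fun v => by
      simp [tv_smul], one_smul]
  have h1 : tv w.1 1 • x = x := by rw [hall w hw, hs0, xe_one, one_smul]
  rcases hcases c with rfl | rfl | rfl
  · rw [tv_zero, one_smul]
  · exact h1
  · rw [← tv_inv, inv_smul_eq_iff, h1]

variable [Finite Ω] [MulAction.IsPretransitive (symplecticGroup (Fin m) F) Ω]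

theorem exists_moved_center (hne : 1 < Nat.card Ω) : ∃ ω : Ω, Z0 m F ω ≠ ⊤ := by
  by_contra hcon
  push Not at hcon
  have : Nonempty Ω := (Nat.card_pos_iff.1 (by omega)).1
  obtain ⟨ω⟩ := this
  refine false_of_all (F := F) (m := m) hne (ω := ω) fun x c => ?_
  by_cases hx : x = 0
  · rw [hx, show tv (0 : Fin m ⊕ Fin m → F) c = 1 from group_ext fun v => by simp [tv_smul], one_smul]
  obtain ⟨g, hg⟩ := exists_smul_eq_of_ne_zero hx (ev_ne_zero (F := F) (m := m))
  have h := mem_Z0_iff_tv.1 ((hcon (g • ω)).symm ▸ AddSubgroup.mem_top c : c ∈ Z0 m F (g • ω))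
  rwa [← hg, ← tv_conj, mul_smul, mul_smul, inv_smul_smul, smul_left_cancel_iff] at h

/-- No nontrivial transitive action of `Sp_{2m}(q)` has degree below `(q^(2m) - 1)/(q - 1)`. -/
theorem false_of_small (hm : 2 ≤ m) (hq : 3 ≤ Nat.card F) (hexc : ¬ (m = 2 ∧ Nat.card F = 3))
    (hne : 1 < Nat.card Ω) (hd : Nat.card Ω * (Nat.card F - 1) + 1 < Nat.card F ^ (2 * m)) :
    False := by
  classical
  obtain ⟨χ, hχ'⟩ := AddChar.exists_apply_ne_zero.2 (one_ne_zero : (1 : F) ≠ 0)
  have hχ : χ ≠ 1 := fun h => hχ' (by rw [h]; rfl)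
  obtain ⟨ω0, hω0⟩ := exists_moved_center (F := F) (m := m) (Ω := Ω) hne
  obtain ⟨ω, hω, hRω⟩ := exists_moved_Rb hm hq hω0
  have hA : An m χ ω ≠ ⊥ := fun h => hRω (eq_top_iff.2 fun a _ => mem_Rb_of_forall χ hχ fun y hy => by
    rw [h, AddSubgroup.mem_bot] at hy
    rw [hy, Submodule.coe_zero, form_zero_right, AddChar.map_zero_eq_one])
  obtain ⟨heven, hstay, hshape⟩ := main_dich χ hχ hm hq hd ω hω hA
  -- the annihilator is closed under scalars
  have hscal : ∀ (c : F) (y : Wsp m F), y ∈ An m χ ω → c • y ∈ An m χ ω := by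
    intro c y hy
    rcases hshape with h | ⟨v, -, hv, -⟩
    · rw [h]; exact AddSubgroup.mem_top _
    · obtain ⟨s, rfl⟩ := (hv y).1 hy
      exact (hv _).2 ⟨c * s, smul_smul c s v⟩
  obtain ⟨v, hvA, hv0⟩ : ∃ v ∈ An m χ ω, v ≠ 0 := by
    by_contra hcon
    push Not at hcon
    exact hA ((AddSubgroup.eq_bot_iff_forall _).2 hcon)
  obtain ⟨l, hl0, hl1, hlZ⟩ : ∃ l : F, l ≠ 0 ∧ l ≠ 1 ∧ ∀ z, l ^ 2 * z ∈ Z0 m F ω ↔ z ∈ Z0 m F ω := by
    by_cases h2 : (2 : F) = 0
    · obtain ⟨t, ht0, ht1⟩ : ∃ t : F, t ≠ 0 ∧ t ≠ 1 := by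
        have : Fintype F := Fintype.ofFinite F
        by_contra h
        push Not at h
        have hu : (Finset.univ : Finset F) = {0, 1} := by
          ext x; by_cases hx : x = 0 <;> simp [hx, h]
        rw [Nat.card_eq_fintype_card, ← Finset.card_univ, hu] at hq
        simp at hq
      exact ⟨t, ht0, ht1, fun z => by simp [heven h2, ht0]⟩
    · refine ⟨-1, neg_ne_zero.2 one_ne_zero, fun h => h2 (by linear_combination -h), fun z => ?_⟩
      rw [neg_one_sq, one_mul]
  obtain ⟨t, ht, htW⟩ := exists_torus (m := m) hl0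
  have htact : ∀ a : Wsp m F, ht.act a = a := fun a => Subtype.ext (htW a.1 a.2)
  have htω : t • ω ∈ qo m F ω := by
    refine hstay t ⟨l, ht, hlZ⟩ ⟨l⁻¹ • v, smul_ne_zero (inv_ne_zero hl0) hv0, hscal _ v hvA, ?_⟩
    have := (mem_An_lev χ ht).2 hvA
    rwa [htact] at this
  obtain ⟨a, z, haz⟩ := htω
  -- a point of the orbit moved by `t` inside the central part only
  obtain ⟨c, hc⟩ : ∃ c : Wsp m F, l • c + a = c := by
    refine ⟨(1 - l)⁻¹ • a, ?_⟩
    have h1 : (1 - l) * (1 - l)⁻¹ = 1 := mul_inv_cancel₀ (sub_ne_zero.2 (Ne.symm hl1))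
    rw [smul_smul]
    match_scalars
    linear_combination -h1
  obtain ⟨ω', hω'⟩ : ∃ x, x = xe c (0 : F) • ω := ⟨_, rfl⟩
  have hmemω' : ω' ∈ qo m F ω := ⟨c, 0, hω'.symm⟩
  have hZ' : Z0 m F ω' = Z0 m F ω := Z0_eq_of_mem hmemω'
  have hA' : An m χ ω' = An m χ ω := An_eq_of_mem χ hmemω'
  obtain ⟨σ, hσ⟩ : ∃ σ : F, t • ω' = xe (0 : Wsp m F) σ • ω' := by
    refine ⟨z + sympForm m F a.1 (l • c : Wsp m F).1, ?_⟩
    calc t • ω' = xe (l • c) 0 • t • ω := by
          rw [hω', amul t, lev_mul_xe ht, htact, mul_zero, mul_smul]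
      _ = xe (l • c + a) (0 + z + sympForm m F a.1 (l • c : Wsp m F).1) • ω := by
          rw [← haz, amul (xe _ _), xe_mul]
      _ = _ := by
          rw [hc, hω', amul (xe _ _), xe_zero_mul, zero_add, add_zero]
  -- Levi elements meeting the annihilator fix `ω'` up to the centre
  have hlift : ∀ g : symplecticGroup (Fin m) F, Lev g 1 →
      (∃ y : Wsp m F, y ≠ 0 ∧ y ∈ An m χ ω ∧ y ∈ An m χ (g • ω)) →
      ∃ s : F, g • ω' = xe (0 : Wsp m F) s • ω' := by
    intro g hg hy
    have h1 : g • ω' ∈ qo m F ω' := by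
      rw [qo_eq hmemω', ← qo_eq (hstay g (isFam_of_lev hg) hy)]
      exact mem_qo_lev hg hmemω'
    obtain ⟨b, y, hby⟩ := h1
    have h2 : xe (l • b) (l ^ 2 * y + σ) • ω' = xe b (σ + y) • ω' := by
      calc xe (l • b) (l ^ 2 * y + σ) • ω'
          = xe (l • b) (l ^ 2 * y) • xe (0 : Wsp m F) σ • ω' := by
            rw [amul (xe _ _), xe_mul, add_zero, Submodule.coe_zero, form_zero_left, add_zero]
        _ = t • g • ω' := by
            rw [← hσ, amul (xe _ _), ← hby, amul t, lev_mul_xe ht, htact]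
        _ = g • t • ω' := by rw [amul t, torus_commute ht htW hg, mul_smul]
        _ = xe (0 : Wsp m F) σ • g • ω' := by rw [hσ, amul g, lev_comm_central hg, mul_smul]
        _ = _ := by rw [← hby, amul (xe _ _), xe_zero_mul]
    have h3 : b ∈ Rb m F ω' := by
      refine mem_Rb_of_forall χ hχ fun r hr => ?_
      rw [hA'] at hr
      have h4 := sub_mem_Rb h2
      have h5 := (mem_An χ).1 (hA'.symm ▸ hscal (l - 1)⁻¹ r hr) _ h4
      rwa [show sympForm m F (-b + l • b : Wsp m F).1 ((l - 1)⁻¹ • r : Wsp m F).1 =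
          sympForm m F b.1 r.1 by
        rw [Submodule.coe_add, Submodule.coe_neg, Submodule.coe_smul, Submodule.coe_smul,
          form_add_left, form_neg_left, form_smul_left, form_smul_right]
        field_simp [sub_ne_zero.2 hl1]
        ring] at h5
    obtain ⟨η, hη⟩ := mem_Rb.1 h3
    refine ⟨y - η, ?_⟩
    conv_rhs => rw [← hη]
    rw [amul (xe _ _), xe_zero_mul, sub_add_cancel, hby]
  have hroot : ∀ w : Wsp m F, w ∈ An m χ ω → ∀ c : F,
      ∃ s : F, tv w.1 c • ω' = xe (0 : Wsp m F) s • ω' := by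
    intro w hw c
    by_cases hw0 : w = 0
    · refine ⟨0, ?_⟩
      rw [hw0, Submodule.coe_zero, show tv (0 : Fin m ⊕ Fin m → F) c = 1 from group_ext fun v => by
        simp [tv_smul], xe_one]
    have hL : Lev (tv w.1 c : symplecticGroup (Fin m) F) 1 := lev_of_mem (tv_mem_W w.2 c)
    refine hlift _ hL ⟨w, hw0, hw, ?_⟩
    have := (mem_An_lev χ hL).2 hw
    rwa [inv_one, one_smul, show hL.act w = w from Subtype.ext (by
      rw [Lev.act_coe, tv_smul, form_self, mul_zero, zero_smul, add_zero])] at this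
  have hmove : ∀ w : Wsp m F, w ≠ 0 → w ∈ An m χ ω → ∀ (g : symplecticGroup (Fin m) F) (μ : F),
      μ ≠ 0 → Lev g 1 → g • w.1 = μ • w.1 → ∃ s : F, g • ω' = xe (0 : Wsp m F) s • ω' := by
    intro w hw0 hw g μ hμ hg hgw
    refine hlift g hg ⟨μ • w, smul_ne_zero hμ hw0, hscal _ _ hw, ?_⟩
    have := (mem_An_lev χ hg).2 hw
    rwa [inv_one, one_smul, show hg.act w = μ • w from Subtype.ext hgw] at this
  rcases Nat.lt_or_ge (Nat.card F) 4 with hq3 | hq4
  · -- three elements
    have hq' : Nat.card F = 3 := by omega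
    obtain ⟨h3, -⟩ := card_three_facts hq'
    have h2 : (2 : F) ≠ 0 := fun h2 => one_ne_zero (show (1 : F) = 0 by linear_combination h3 - h2)
    have hm3 : 3 ≤ m := by
      by_contra h
      exact hexc ⟨by omega, hq'⟩
    rcases hshape with htop | ⟨v', -, -, h⟩
    swap
    · rcases h with h | ⟨h, -⟩
      · exact hexc ⟨h, hq'⟩
      · exact h2 h
    have hZbot : Z0 m F ω' = ⊥ := by
      rw [hZ']
      by_contra hbot
      have h1 := three_le_card_Z0 (m := m) h2 ω hbot
      refine hω (AddSubgroup.eq_top_of_card_eq _ (le_antisymm ?_ (by omega)))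
      exact Nat.card_le_card_of_injective _ Subtype.val_injective
    refine false_of_full_W (F := F) (m := m) hm hq hne hd (ω := ω') fun w => ?_
    refine tf_of_lift_three hq' hm3 hZbot (fun g hg => hlift g hg ⟨v, hv0, hvA, ?_⟩) w
    obtain ⟨y, hy⟩ := hg.act_bijective.2 v
    have := (mem_An_lev χ hg).2 (show y ∈ An m χ ω by rw [htop]; exact AddSubgroup.mem_top _)
    rwa [inv_one, one_smul, hy] at this
  rcases hshape with htop | ⟨v', hv', hline, hcase⟩
  · refine false_of_full_W (F := F) (m := m) hm hq hne hd (ω := ω') fun w => ?_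
    by_cases hw0 : w = 0
    · intro c
      rw [hw0, Submodule.coe_zero, show tv (0 : Fin m ⊕ Fin m → F) c = 1 from group_ext fun v => by
        simp [tv_smul], one_smul]
    have hwA : w ∈ An m χ ω := by rw [htop]; exact AddSubgroup.mem_top _
    exact tf_of_lift hq4 hw0 (hroot w hwA) (hmove w hw0 hwA)
  have hvA' : v' ∈ An m χ ω := (hline v').2 ⟨1, (one_smul F v').symm⟩
  have hTv : Tf ω' v'.1 := tf_of_lift hq4 hv' (hroot v' hvA') (hmove v' hv' hvA')
  have hv'0 : v'.1 ≠ 0 := fun h => hv' (Subtype.ext h)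
  rcases hcase with hm2 | ⟨h2, hfew⟩
  · exact false_two hm2 hq hne hd hv'0 hTv
  refine false_few hm hne hd hfew (fun x hx b y => ?_) hv'0 hTv
  have hAx : An m χ x = ⊥ := by
    by_contra hAx
    obtain ⟨k, μ, hk, hμ, hkμ, hN, -⟩ := fam_spec χ hχ x hAx
    rw [hx] at hN
    simp only [show Nat.card (F ⧸ (⊤ : AddSubgroup F)) = 1 from
      (AddSubgroup.index_eq_card _).symm.trans AddSubgroup.index_top, one_mul] at hN
    have h1 : (famPts m F x).card ≤ Nat.card {x : Ω // Z0 m F x = ⊤} := by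
      rw [← Nat.card_eq_finsetCard]
      exact Nat.card_le_card_of_injective
        (fun p => ⟨p.1, (Z0_of_mem_famPts p.2).trans hx⟩) fun p q e => Subtype.ext
          (congrArg Subtype.val e :)
    have h4 : 1 ≤ Nat.card (An m χ x) := Nat.card_pos
    have h5 : k * Nat.card (An m χ x) = k * (Nat.card (An m χ x) - 1) + k := by
      rw [← Nat.mul_succ, Nat.succ_eq_add_one, Nat.sub_add_cancel h4]
    have h6 := Nat.le_mul_of_pos_left (Nat.card F ^ (2 * (m - 1)) - 1) (show 0 < μ by omega)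
    have h7 : Nat.card F * Nat.card F ≤ Nat.card F ^ (2 * (m - 1)) := by
      rw [← sq]; exact Nat.pow_le_pow_right (by omega) (by omega)
    have h8 : 2 * Nat.card F ≤ Nat.card F * Nat.card F := Nat.mul_le_mul_right _ (by omega)
    omega
  have hb : b ∈ Rb m F x := mem_Rb_of_forall χ hχ fun r hr => by
    rw [hAx, AddSubgroup.mem_bot] at hr
    rw [hr, Submodule.coe_zero, form_zero_right, AddChar.map_zero_eq_one]
  obtain ⟨η, hη⟩ := mem_Rb.1 hb
  conv_lhs => rw [← hη]
  rw [← sub_add_cancel y η, ← xe_zero_mul, mul_smul, hη, hη]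
  exact mem_Z0.1 (hx ▸ AddSubgroup.mem_top _)

/-- The minimal index of a proper subgroup of `PSp_{2m}(q)`. -/
theorem PSp_min_index (hm : 2 ≤ m) (hq : 3 ≤ Nat.card F) (hexc : ¬ (m = 2 ∧ Nat.card F = 3)) :
    (∀ H : Subgroup (Cfsg.PSp m F), H ≠ ⊤ →
      (Nat.card F ^ (2 * m) - 1) / (Nat.card F - 1) ≤ H.index) ∧
    ∃ H : Subgroup (Cfsg.PSp m F),
      H.index = (Nat.card F ^ (2 * m) - 1) / (Nat.card F - 1) := by
  have hs := QuotientGroup.mk'_surjective (Subgroup.center (symplecticGroup (Fin m) F))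
  refine ⟨fun H hH => ?_, ?_⟩
  · rw [← Subgroup.index_comap_of_surjective H hs]
    set K := H.comap (QuotientGroup.mk' (Subgroup.center (symplecticGroup (Fin m) F)))
    have hK : K ≠ ⊤ := fun h => hH (by
      rw [← Subgroup.map_comap_eq_self_of_surjective hs H, show H.comap _ = ⊤ from h,
        Subgroup.map_top_of_surjective _ hs])
    by_contra hlt
    push Not at hlt
    have hne : 1 < Nat.card (symplecticGroup (Fin m) F ⧸ K) := by
      have h1 : K.index ≠ 1 := fun h => hK (Subgroup.index_eq_one.1 h)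
      have h0 : K.index ≠ 0 := Subgroup.index_ne_zero_of_finite
      rw [← Subgroup.index_eq_card]
      omega
    refine false_of_small (Ω := symplecticGroup (Fin m) F ⧸ K) hm hq hexc hne ?_
    rw [← Subgroup.index_eq_card]
    have h1 := (Nat.le_div_iff_mul_le (show 0 < Nat.card F - 1 by omega)).1
      (show K.index + 1 ≤ _ from hlt)
    rw [add_mul, one_mul] at h1
    omega
  · have := isPretransitive_proj (F := F) (m := m)
    refine ⟨(MulAction.stabilizer (symplecticGroup (Fin m) F)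
      (Projectivization.mk F (ev m F) ev_ne_zero)).map (QuotientGroup.mk' _), ?_⟩
    rw [Subgroup.index_map_eq _ hs, MulAction.index_stabilizer_of_transitive]
    · have hc := Projectivization.card' F (Fin m ⊕ Fin m → F)
      have hV : Nat.card (Fin m ⊕ Fin m → F) = Nat.card F ^ (2 * m) := by
        rw [Nat.card_fun, Nat.card_sum, Nat.card_fin, two_mul]
      rw [hV] at hc
      rw [hc, Nat.add_sub_cancel, Nat.mul_div_cancel _ (by omega)]
    · rw [QuotientGroup.ker_mk']
      intro z hz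
      obtain ⟨c, -, hzc⟩ := mem_center_iff.1 hz
      rw [MulAction.mem_stabilizer_iff, smul_mk_eq, Projectivization.mk_eq_mk_iff']
      exact ⟨c, (hzc _).symm⟩

end CfsgLib.MinIndexPSp
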