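import Cfsg.Agent.Lib.MinIndexPSp.Stab
import Cfsg.Agent.Lib.SympGeom.Basic

/-!
Some moved point has a nonzero annihilator.
-/

set_option autoImplicit false
set_option linter.unusedSectionVars false

namespace CfsgLib.MinIndexPSp

open Matrix Cfsg CfsgLib.Linear.Symp

variable {F : Type*} [Field F] {m : ℕ}

/-- Transitivity on independent orthogonal pairs. -/
theorem exists_map_perp_pair (hm : 2 ≤ m) {a b c d : Fin m ⊕ Fin m → F} (ha : a ≠ 0)
    (hab : ∀ t : F, t • a ≠ b) (h : sympForm m F a b = 0) (hc : c ≠ 0) (hcd : ∀ t : F, t • c ≠ d)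
    (h' : sympForm m F c d = 0) :
    ∃ g : symplecticGroup (Fin m) F, g • a = c ∧ g • b = d := by
  have mk : ∀ {x y : Fin m ⊕ Fin m → F}, x ≠ 0 → (∀ t : F, t • x ≠ y) → sympForm m F x y = 0 →
      ∃ t : CfsgLib.SympGeom.IsoTuple m F 2, t.1 = ![x, y] := by
    intro x y hx hxy hf
    refine ⟨⟨![x, y], ?_, ?_⟩, rfl⟩
    · rw [LinearIndependent.pair_iff' hx]
      exact hxy
    · intro i j
      have hf' : sympForm m F y x = 0 := by rw [form_swap, hf, neg_zero]
      fin_cases i <;> fin_cases j <;> simp [form_self, hf, hf']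
  obtain ⟨t, ht⟩ := mk ha hab h
  obtain ⟨u, hu⟩ := mk hc hcd h'
  obtain ⟨g, hg⟩ := CfsgLib.SympGeom.exists_map_isoTuple t u
  refine ⟨g, ?_, ?_⟩
  · simpa [ht, hu, ← smul_def] using hg 0
  · simpa [ht, hu, ← smul_def] using hg 1

variable [NeZero m] [Finite F]
variable {Ω : Type*} [MulAction (symplecticGroup (Fin m) F) Ω]

theorem ev_ne_smul_W {a : Wsp m F} (ha : a ≠ 0) (t : F) : t • ev m F ≠ a.1 := by
  intro h
  have := form_W_ev' a
  rw [← h, form_smul_left, form_ev_ev', mul_one] at this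
  exact ha (Subtype.ext (by rw [← h, this, zero_smul]; rfl))

theorem exists_W_ne_zero (hm : 2 ≤ m) : ∃ a : Wsp m F, a ≠ 0 := by
  by_contra hcon
  push Not at hcon
  have : Subsingleton (Wsp m F) := ⟨fun a b => by rw [hcon a, hcon b]⟩
  have h := card_Wsp (F := F) (m := m)
  rw [Nat.card_of_subsingleton (0 : Wsp m F)] at h
  have : 2 ^ 1 ≤ Nat.card F ^ (2 * (m - 1)) :=
    le_trans (Nat.pow_le_pow_left Finite.one_lt_card _) (Nat.pow_le_pow_right Finite.card_pos (by omega))
  omega

theorem isSquare_of_two_eq_zero (h2 : (2 : F) = 0) (x : F) : ∃ r : F, x = r * r := by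
  have : Fintype F := Fintype.ofFinite F
  have : CharP F 2 := CharTwo.of_one_ne_zero_of_two_eq_zero one_ne_zero h2
  exact FiniteField.isSquare_of_char_two (ringChar.eq F 2) x

/-- In characteristic two a mixed pair of transvections in a point stabiliser spreads out. -/
theorem spread (h2 : (2 : F) = 0) {ω : Ω} (hR : Rb m F ω = ⊤) {a : Wsp m F} (ha : a ≠ 0)
    {α s : F} (hfix : (tv (ev m F) α * tv a.1 s) • ω = ω) (c : F) :
    xe ((s * c) • a) (s * c ^ 2) • ω = ω := by
  obtain ⟨w, hw⟩ := exists_form_W_eq ha c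
  obtain ⟨z, hz⟩ := (mem_Rb (ω := ω)).1 (hR ▸ AddSubgroup.mem_top w)
  have hre : xe w z • ev m F = ev m F := by
    rw [xe_smul, form_self, form_ev_W]
    simp
  have hra : xe w z • a.1 = a.1 + c • ev m F := by
    rw [xe_smul, form_W_ev, hw]
    simp
  have hconj : (tv (ev m F) α * tv (a.1 + c • ev m F) s) • ω = ω := by
    have h1 : xe w z * (tv (ev m F) α * tv a.1 s) * (xe w z)⁻¹ =
        tv (ev m F) α * tv (a.1 + c • ev m F) s := by
      rw [show xe w z * (tv (ev m F) α * tv a.1 s) * (xe w z)⁻¹ =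
        xe w z * tv (ev m F) α * (xe w z)⁻¹ * (xe w z * tv a.1 s * (xe w z)⁻¹) by group,
        tv_conj, tv_conj, hre, hra]
    rw [← h1, mul_smul, mul_smul, inv_smul_eq_iff.2 hz.symm, hfix, hz]
  have hcomm : sympForm m F (ev m F) (a.1 + c • ev m F) = 0 := by
    rw [form_add_right, form_ev_W, form_smul_right, form_self, mul_zero, add_zero]
  have key : tv (ev m F) α * tv (a.1 + c • ev m F) s * (tv (ev m F) α * tv a.1 s) =
      xe ((s * c) • a) (s * c ^ 2) := by
    rw [tv_commute hcomm, mul_assoc, ← mul_assoc (tv (ev m F) α) (tv (ev m F) α), tv_add,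
      show α + α = 0 by linear_combination α * h2, tv_zero, one_mul]
    refine group_ext fun v => ?_
    rw [mul_smul, tv_smul, tv_smul, xe_smul]
    simp only [form_add_left, form_add_right, form_smul_left, form_smul_right, form_self,
      form_W_ev a, Submodule.coe_smul, mul_zero, add_zero]
    match_scalars <;> ring_nf <;> simp [h2]
  rw [← key, mul_smul, hfix, hconj]

/-- At most one nonzero second coordinate. -/
theorem spread_unique (h2 : (2 : F) = 0) {ω : Ω} (hR : Rb m F ω = ⊤) (hω : Z0 m F ω ≠ ⊤)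
    {a : Wsp m F} (ha : a ≠ 0) {α s α' s' : F} (hfix : (tv (ev m F) α * tv a.1 s) • ω = ω)
    (hfix' : (tv (ev m F) α' * tv a.1 s') • ω = ω) (hs : s ≠ 0) (hs' : s' ≠ 0) : s = s' := by
  by_contra hne
  refine hω (eq_top_iff.2 fun z _ => ?_)
  have hK : s⁻¹ - s'⁻¹ ≠ 0 := sub_ne_zero.2 fun e => hne (inv_injective e)
  obtain ⟨b, hb⟩ := isSquare_of_two_eq_zero h2 (z / (s⁻¹ - s'⁻¹))
  have h1 := spread h2 hR ha hfix (b / s)
  have h1' := spread h2 hR ha hfix' (b / s')
  rw [mul_div_cancel₀ _ hs] at h1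
  rw [mul_div_cancel₀ _ hs'] at h1'
  have hmem := sub_mem_Z0 h1 h1'
  rwa [show s * (b / s) ^ 2 - s' * (b / s') ^ 2 = b * b * (s⁻¹ - s'⁻¹) by field_simp, ← hb,
    div_mul_cancel₀ _ hK] at hmem

/-- Some moved point has a proper projected stabiliser. -/
theorem exists_moved_Rb (hm : 2 ≤ m) (hq : 3 ≤ Nat.card F) {ω : Ω} (hω : Z0 m F ω ≠ ⊤) :
    ∃ x : Ω, Z0 m F x ≠ ⊤ ∧ Rb m F x ≠ ⊤ := by
  by_contra hcon
  push Not at hcon
  have hR := hcon ω hω
  by_cases h2 : (2 : F) = 0
  swap
  · obtain ⟨a, ha⟩ := exists_W_ne_zero (F := F) hm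
    refine hω (eq_top_iff.2 fun z _ => ?_)
    obtain ⟨b, hb⟩ := exists_form_W_eq ha (z / 2)
    have := commutator_mem_Z0 (ω := ω) (hR ▸ AddSubgroup.mem_top a) (hR ▸ AddSubgroup.mem_top b)
    rwa [hb, mul_div_cancel₀ _ h2] at this
  have hlift : ∀ a : Wsp m F, xe a 0 • ω = ω := by
    intro a
    by_cases ha : a = 0
    · rw [ha, xe_one, one_smul]
    obtain ⟨t, ht0, ht1⟩ : ∃ t : F, t ≠ 0 ∧ t ≠ 1 := by
      classical
      have : Fintype F := Fintype.ofFinite F
      by_contra h
      push Not at h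
      have hu : (Finset.univ : Finset F) = {0, 1} := by
        ext x; by_cases hx : x = 0 <;> simp [hx, h]
      rw [Nat.card_eq_fintype_card, ← Finset.card_univ, hu] at hq
      simp at hq
    have ha' : ∀ t : F, t • a.1 ≠ ev m F := fun t e => by
      have := form_W_ev' a
      have h1 := congrArg (fun v => sympForm m F v (ev' m F)) e
      simp [form_smul_left, this, form_ev_ev'] at h1
    have ha0 : a.1 ≠ 0 := fun h => ha (Subtype.ext h)
    obtain ⟨g, hga, hge⟩ := exists_map_perp_pair hm ha0 ha' (form_W_ev a) ev_ne_zero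
      (ev_ne_smul_W ha) (form_ev_W a)
    -- the second centre is moved
    have hgω : Z0 m F (g • ω) ≠ ⊤ := by
      intro htop
      have hfull : ∀ c : F, (tv (ev m F) 0 * tv a.1 c) • ω = ω := by
        intro c
        have h1 := mem_Z0_iff_tv.1 (htop ▸ AddSubgroup.mem_top c : c ∈ Z0 m F (g • ω))
        rw [← hga, ← tv_conj, mul_smul, mul_smul, inv_smul_smul, smul_left_cancel_iff] at h1
        rw [tv_zero, one_mul]
        exact h1
      exact ht1 (spread_unique h2 hR hω ha (hfull t) (hfull 1) ht0 one_ne_zero)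
    have hgR := hcon _ hgω
    -- pairs of transvections fixing `ω`
    have hpair : ∀ (c η : F), xe (c • a) η • ω = ω →
        ∃ η' : F, (tv (ev m F) η * tv a.1 η') • ω = ω := by
      intro c η hη
      by_cases hc : c = 0
      · refine ⟨0, ?_⟩
        rw [hc, zero_smul, xe_zero] at hη
        rwa [tv_zero, mul_one]
      obtain ⟨z, hz⟩ := (mem_Rb (ω := g • ω)).1 (hgR ▸ AddSubgroup.mem_top (c • a))
      refine ⟨z, ?_⟩
      have hfg : sx a.1 (c • ev m F) z • ω = ω := by
        refine (smul_left_cancel_iff g).1 ?_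
        conv_rhs => rw [← hz]
        rw [xe, Submodule.coe_smul, ← hga]
        conv_rhs => rw [hga, ← hge, smul_comm c g, ← hga, ← sx_conj, mul_smul, mul_smul, inv_smul_smul]
      have h0 : sympForm m F (c • ev m F) a.1 = 0 := by rw [form_smul_left, form_ev_W, mul_zero]
      have hsw : sx a.1 (c • ev m F) z = sx (c • a.1) (ev m F) (z / c ^ 2) := by
        rw [sx_smul_vec c (form_ev_W a), mul_div_cancel₀ _ (pow_ne_zero 2 hc)]
      have h3 := sx_mul_sx_swap h2 (u := ev m F) (w := c • a.1)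
        (by rw [form_smul_left, form_W_ev, mul_zero]) η (z / c ^ 2)
      rw [tv_smul_vec, ← sq, mul_div_cancel₀ _ (pow_ne_zero 2 hc), ← hsw] at h3
      rw [← h3, mul_smul, hfg]
      exact hη
    have hswap : ∀ α s : F, (tv (ev m F) α * tv a.1 s) • ω = ω →
        (tv (ev m F) s * tv a.1 α) • (g • ω) = g • ω := by
      intro α s h
      have h1 : g * (tv (ev m F) α * tv a.1 s) * g⁻¹ = tv (ev m F) s * tv a.1 α := by
        rw [show g * (tv (ev m F) α * tv a.1 s) * g⁻¹ =
          g * tv (ev m F) α * g⁻¹ * (g * tv a.1 s * g⁻¹) by group,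
          tv_conj, tv_conj, hga, hge, tv_commute (form_W_ev a)]
      rw [← h1, mul_smul, mul_smul, inv_smul_smul, h]
    by_cases hex : ∃ α s : F, s ≠ 0 ∧ (tv (ev m F) α * tv a.1 s) • ω = ω
    · obtain ⟨α, s, hs, hfix⟩ := hex
      exfalso
      -- all squares occur as first coordinates
      have hall : ∀ b : F, ∃ η' : F, (tv (ev m F) (s * (b / s) ^ 2) * tv a.1 η') • ω = ω := by
        intro b
        refine hpair b _ ?_
        have := spread h2 hR ha hfix (b / s)
        rwa [mul_div_cancel₀ _ hs] at this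
      have h01 : ∀ z : F, ∃ η' : F, (tv (ev m F) z * tv a.1 η') • ω = ω := by
        intro z
        obtain ⟨b, hb⟩ := isSquare_of_two_eq_zero h2 (s * z)
        obtain ⟨η', hη'⟩ := hall b
        refine ⟨η', ?_⟩
        rwa [show s * (b / s) ^ 2 = z by field_simp; linear_combination -hb] at hη'
      obtain ⟨x, hx⟩ := h01 t
      obtain ⟨y, hy⟩ := h01 1
      exact ht1 (spread_unique h2 hgR hgω ha (hswap _ _ hx) (hswap _ _ hy) ht0 one_ne_zero)
    · push Not at hex
      obtain ⟨η, hη⟩ := (mem_Rb (ω := ω)).1 (hR ▸ AddSubgroup.mem_top a)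
      obtain ⟨η', hη'⟩ := hpair 1 η (by rwa [one_smul])
      obtain rfl : η' = 0 := by
        by_contra h
        exact hex η η' h hη'
      rw [tv_zero, mul_one, ← xe_zero] at hη'
      conv_lhs => rw [← hη']
      have h0 : xe a 0 = xe a η * xe (0 : Wsp m F) (-η) := by
        rw [xe_mul, add_zero, Submodule.coe_zero, form_zero_left]
        congr 1
        ring
      rw [h0, mul_smul, ← mul_smul, ← mul_smul, mul_assoc, xe_zero_mul, neg_add_cancel, xe_one,
        mul_one, hη]
  refine hω (eq_top_iff.2 fun z _ => ?_)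
  obtain ⟨a, ha⟩ := exists_W_ne_zero (F := F) hm
  obtain ⟨b, hb⟩ := exists_form_W_eq ha (-z)
  have h1 : xe (a + b) (0 + 0 + sympForm m F b.1 a.1) • ω = ω := by
    rw [← xe_mul, mul_smul, hlift b, hlift a]
  have := sub_mem_Z0 h1 (hlift (a + b))
  rwa [form_swap, hb, neg_neg, sub_zero, add_zero, zero_add] at this

end CfsgLib.MinIndexPSp
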