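import Cfsg.Agent.Lib.MinIndexPSp.TwoCount

/-!
The stabiliser of an elliptic quadratic form in `Sp_{2m}(2)`, and the minimal index.
-/

set_option autoImplicit false
set_option linter.unusedSectionVars false

namespace CfsgLib.MinIndexPSp.Two

open Matrix Cfsg CfsgLib.Linear.Symp

variable {F : Type*} [Field F] [Finite F] {m : ℕ} [NeZero m] (hF : Nat.card F = 2)

include hF in
/-- An additive functional is given by the form. -/
theorem exists_form_eq (L : (Fin m ⊕ Fin m → F) →+ F) :
    ∃ c : Fin m ⊕ Fin m → F, ∀ a, L a = sympForm m F a c := by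
  classical
  let c : Fin m ⊕ Fin m → F :=
    Sum.elim (fun i => L (Pi.single (.inr i) 1)) (fun i => L (Pi.single (.inl i) 1))
  let M : (Fin m ⊕ Fin m → F) →+ F :=
    { toFun := fun a => sympForm m F a c
      map_zero' := form_zero_left c
      map_add' := fun a b => form_add_left a b c }
  have : L = M := by
    refine AddMonoidHom.functions_ext F L M fun i t => ?_
    rcases eq_zero_or_one hF t with rfl | rfl
    · rw [Pi.single_zero, map_zero, map_zero]
    show _ = sympForm m F _ c
    rw [form_swap c, neg_eq_self hF]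
    rcases i with i | i
    · rw [form_single_inl]
      simp [c]
    · rw [form_single_inr]
      simp [c, neg_eq_self hF]
  exact ⟨c, fun a => DFunLike.congr_fun this a⟩

include hF in
/-- There is a quadratic form with polar the standard form. -/
theorem exists_quad : ∃ q : (Fin m ⊕ Fin m → F) → F,
    ∀ a b, q (a + b) = q a + q b + sympForm m F a b := by
  refine ⟨fun a => ∑ i, a (.inl i) * a (.inr i), fun a b => ?_⟩
  show _ = _ + _ + _
  rw [sympForm_eq_sum, ← Finset.sum_add_distrib, ← Finset.sum_add_distrib]
  refine Finset.sum_congr rfl fun i _ => ?_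
  simp only [Pi.add_apply]
  linear_combination (a (.inl i) * b (.inr i)) * two_eq_zero hF

include hF in
/-- The stabiliser of an elliptic form has index `2^(m-1)(2^m-1)`. -/
theorem exists_index :
    ∃ H : Subgroup (symplecticGroup (Fin m) F),
      Subgroup.center (symplecticGroup (Fin m) F) ≤ H ∧
        H.index = 2 ^ (m - 1) * (2 ^ m - 1) := by
  classical
  have : Fintype F := Fintype.ofFinite F
  have hadd : ∀ a b c : Fin m ⊕ Fin m → F,
      sympForm m F (a + b) c = sympForm m F a c + sympForm m F b c := form_add_left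
  have hnd : ∀ c : Fin m ⊕ Fin m → F, (∀ a, sympForm m F a c = 0) → c = 0 := fun c h =>
    eq_zero_of_forall_form fun a => by rw [form_swap, h a, neg_zero]
  have hcard : Fintype.card (Fin m ⊕ Fin m → F) = (2 ^ m) ^ 2 := by
    rw [← Nat.card_eq_fintype_card, Nat.card_fun, hF, Nat.card_sum, Nat.card_fin, ← pow_mul,
      mul_two]
  have h2N : (1 : ℤ) ≤ ((2 ^ m : ℕ) : ℤ) := by exact_mod_cast Nat.one_le_two_pow
  -- an elliptic form
  obtain ⟨q, hq, hS⟩ : ∃ q : (Fin m ⊕ Fin m → F) → F,
      (∀ a b, q (a + b) = q a + q b + sympForm m F a b) ∧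
        ∑ a, sgn (q a) = -((2 ^ m : ℕ) : ℤ) := by
    obtain ⟨q, hq⟩ := exists_quad (m := m) hF
    rcases sum_eq hF hadd hq hnd _ hcard with h | h
    swap
    · exact ⟨q, hq, h⟩
    obtain ⟨c, hc⟩ : ∃ c, q c = 1 := by
      by_contra hcon
      push Not at hcon
      have : ∀ a, q a = 0 := fun a => (eq_zero_or_one hF (q a)).resolve_right (hcon a)
      have h' := hnd (ev m F) fun a => by
        have h0 := hq a (ev m F)
        rw [this, this, this, zero_add, zero_add] at h0
        exact h0.symm
      exact ev_ne_zero h'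
    refine ⟨fun a => q a + sympForm m F a c, fun a b => ?_, ?_⟩
    · show q (a + b) + sympForm m F (a + b) c =
        q a + sympForm m F a c + (q b + sympForm m F b c) + sympForm m F a b
      rw [hq, form_add_left]
      ring
    · rw [sum_shift hF hq c, hc, h]
      simp [sgn]
  let _ : MulAction (symplecticGroup (Fin m) F) ((Fin m ⊕ Fin m → F) → F) := arrowAction
  have happ : ∀ (g : symplecticGroup (Fin m) F) (p : (Fin m ⊕ Fin m → F) → F)
      (a : Fin m ⊕ Fin m → F), (g • p) a = p (g⁻¹ • a) := fun g p a => rfl
  have horb : MulAction.orbit (symplecticGroup (Fin m) F) q =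
      (fun c => fun a => q a + sympForm m F a c) '' {c | q c = 0} := by
    ext p
    constructor
    · rintro ⟨g, rfl⟩
      let L : (Fin m ⊕ Fin m → F) →+ F :=
        AddMonoidHom.mk' (fun a => (g • q) a + q a) fun a b => by
          show (g • q) (a + b) + q (a + b) = (g • q) a + q a + ((g • q) b + q b)
          rw [happ, happ, happ, smul_add, hq, hq, form_smul_smul]
          linear_combination sympForm m F a b * two_eq_zero hF
      obtain ⟨c, hc⟩ := exists_form_eq hF L
      have hpc : (fun a => q a + sympForm m F a c) = g • q := funext fun a => by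
        rw [← hc a]
        show q a + ((g • q) a + q a) = _
        linear_combination q a * two_eq_zero hF
      refine ⟨c, ?_, hpc⟩
      have hsum : ∑ a, sgn ((g • q) a) = ∑ a, sgn (q a) := by
        simp only [happ]
        exact Equiv.sum_comp (MulAction.toPerm g⁻¹ : Equiv.Perm (Fin m ⊕ Fin m → F))
          (fun a => sgn (q a))
      rw [← hpc, sum_shift hF hq c] at hsum
      show q c = 0
      by_contra h
      rw [eq_one_of_ne_zero hF h, hS] at hsum
      simp [sgn] at hsum
      have h2 : (0 : ℤ) < 2 ^ m := by positivity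
      linarith
    · rintro ⟨c, hc, rfl⟩
      refine ⟨tv c 1, funext fun a => ?_⟩
      show q ((tv c 1)⁻¹ • a) = q a + sympForm m F a c
      rw [tv_inv, neg_eq_self hF, tv_smul, one_mul]
      rcases eq_zero_or_one hF (sympForm m F a c) with h | h
      · rw [h, zero_smul, add_zero, add_zero]
      · rw [h, one_smul, hq, h, show q c = 0 from hc, add_zero]
  refine ⟨MulAction.stabilizer _ q, fun z hz => ?_, ?_⟩
  · obtain ⟨c, hc, hzc⟩ := mem_center_iff.1 hz
    have hc1 : c = 1 := eq_one_of_ne_zero hF fun h => by simp [h] at hc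
    refine funext fun a => ?_
    rw [happ]
    congr 1
    rw [inv_smul_eq_iff, hzc a, hc1, one_smul]
  · rw [MulAction.index_stabilizer, horb, Set.ncard_image_of_injective _ (fun c c' h => ?_),
      ← Nat.card_coe_set_eq]
    · have hz2 := two_mul_zeros (F := F) (q := q)
      rw [hS, hcard] at hz2
      have hm1 : 2 ^ m = 2 * 2 ^ (m - 1) := by
        rw [← pow_succ', Nat.sub_add_cancel (NeZero.one_le)]
      set N := 2 ^ (m - 1)
      rw [hm1] at hz2 ⊢
      have h1 : 1 ≤ 2 * N := hm1 ▸ Nat.one_le_two_pow
      change Nat.card {a // q a = 0} = _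
      zify [h1]
      push_cast at hz2
      linarith
    · refine sub_eq_zero.1 (hnd _ fun a => ?_)
      rw [form_sub_right, sub_eq_zero]
      exact add_left_cancel (congrFun h a)

include hF in
/-- The minimal index of a proper subgroup of `PSp_{2m}(2)`. -/
theorem PSp_two_min_index (hm : 3 ≤ m) :
    (∀ H : Subgroup (Cfsg.PSp m F), H ≠ ⊤ → 2 ^ (m - 1) * (2 ^ m - 1) ≤ H.index) ∧
      ∃ H : Subgroup (Cfsg.PSp m F), H.index = 2 ^ (m - 1) * (2 ^ m - 1) := by
  have hs := QuotientGroup.mk'_surjective (Subgroup.center (symplecticGroup (Fin m) F))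
  refine ⟨fun H hH => ?_, ?_⟩
  · rw [← Subgroup.index_comap_of_surjective H hs]
    set K := H.comap (QuotientGroup.mk' (Subgroup.center (symplecticGroup (Fin m) F)))
    have hK : K ≠ ⊤ := fun h => hH (by
      rw [← Subgroup.map_comap_eq_self_of_surjective hs H, show H.comap _ = ⊤ from h,
        Subgroup.map_top_of_surjective _ hs])
    rw [Subgroup.index_eq_card]
    refine card_ge hF hm ?_
    have h1 : K.index ≠ 1 := fun h => hK (Subgroup.index_eq_one.1 h)
    have h0 : K.index ≠ 0 := Subgroup.index_ne_zero_of_finite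
    rw [← Subgroup.index_eq_card]
    omega
  · obtain ⟨H, hle, hi⟩ := exists_index (m := m) hF
    refine ⟨H.map (QuotientGroup.mk' _), ?_⟩
    rw [Subgroup.index_map_eq _ hs (by rwa [QuotientGroup.ker_mk']), hi]

end CfsgLib.MinIndexPSp.Two
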