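import Cfsg.Agent.Lib.MinIndexPSp.TwoPoint

/-!
Counting the orbits of the unipotent radical in an action of `Sp_{2m}(2)` of small degree.
-/

set_option autoImplicit false
set_option linter.unusedSectionVars false

namespace CfsgLib.MinIndexPSp.Two

open Matrix Cfsg CfsgLib.Linear.Symp

variable {F : Type*} [Field F] [Finite F] {m : ℕ} [NeZero m]
variable {Ω : Type*} [MulAction (symplecticGroup (Fin m) F) Ω] [Finite Ω]

/-- An invariant set containing a point with a proper projection of its stabiliser is large. -/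
theorem card_family {χ : AddChar F ℂ} (hχ : χ ≠ 1) {P : AddSubgroup F → Prop} {k : ℕ}
    (hk : ∀ ω : Ω, P (Z0 m F ω) → k ≤ Nat.card (F ⧸ Z0 m F ω)) {x₀ : Ω}
    (hP : P (Z0 m F x₀)) (hR : Rb m F x₀ ≠ ⊤) :
    k * Nat.card F ^ (2 * (m - 1)) ≤ Nat.card {x : Ω // P (Z0 m F x)} := by
  classical
  obtain ⟨y₀, hy₀, hy₀0⟩ : ∃ y ∈ An m χ x₀, y ≠ 0 := by
    by_contra hcon
    push Not at hcon
    refine hR (eq_top_iff.2 fun a _ => mem_Rb_of_forall χ hχ fun y hy => ?_)
    rw [hcon y hy, Submodule.coe_zero, form_zero_right, AddChar.map_zero_eq_one]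
  have hr : ∀ y : Wsp m F, ∃ x : Ω, P (Z0 m F x) ∧ y ∈ An m χ x := by
    intro y
    by_cases hy : y = 0
    · exact ⟨x₀, hP, hy ▸ zero_mem _⟩
    obtain ⟨g, hg, hgy⟩ := exists_lev_smul_eq hy₀0 hy
    refine ⟨g • x₀, ?_, ?_⟩
    · have : Z0 m F (g • x₀) = Z0 m F x₀ := by
        ext z
        have h := mem_Z0_lev (ω := x₀) (z := z) hg
        rwa [one_pow, one_mul] at h
      rwa [this]
    · have h := (mem_An_lev χ hg).2 hy₀
      rw [inv_one, one_smul] at h
      rwa [show hg.act y₀ = y from Subtype.ext hgy] at h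
  choose r hrP hrA using hr
  let can : Set Ω → Ω := fun O => if h : ∃ x, qo m F x = O then h.choose else x₀
  have hcan : ∀ x, qo m F (can (qo m F x)) = qo m F x := fun x => by
    have h : ∃ x', qo m F x' = qo m F x := ⟨x, rfl⟩
    simp only [can, dif_pos h]
    exact h.choose_spec
  have hsame : ∀ x, Z0 m F (can (qo m F x)) = Z0 m F x ∧
      An m χ (can (qo m F x)) = An m χ x := fun x => by
    have h := self_mem_qo (m := m) (F := F) (ω := can (qo m F x))
    have : can (qo m F x) ∈ qo m F x := Eq.mp (congrArg (can (qo m F x) ∈ ·) (hcan x)) h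
    exact ⟨Z0_eq_of_mem this, An_eq_of_mem χ this⟩
  let pt : Wsp m F → Ω := fun y => can (qo m F (r y))
  have hpP : ∀ y, P (Z0 m F (pt y)) := fun y => by
    show P (Z0 m F (can (qo m F (r y))))
    rw [(hsame _).1]
    exact hrP y
  have hpA : ∀ y, y ∈ An m χ (pt y) := fun y => by
    show y ∈ An m χ (can (qo m F (r y)))
    rw [(hsame _).2]
    exact hrA y
  have hemb : ∀ ω : Ω, P (Z0 m F ω) → ∃ φ : An m χ ω × Fin k → qo m F ω, Function.Injective φ := by
    intro ω hω
    have : Fintype (An m χ ω × Fin k) := Fintype.ofFinite _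
    have : Fintype (qo m F ω) := Fintype.ofFinite _
    obtain ⟨φ⟩ := Function.Embedding.nonempty_of_card_le (α := An m χ ω × Fin k)
      (β := qo m F ω) (by
        rw [← Nat.card_eq_fintype_card, ← Nat.card_eq_fintype_card, Nat.card_prod, Nat.card_fin]
        refine le_trans ?_ (card_le_card_qo ω)
        rw [mul_comm, card_An χ hχ]
        exact Nat.mul_le_mul_right _ (hk ω hω))
    exact ⟨φ, φ.injective⟩
  choose φ hφ using hemb
  have hinj : Function.Injective (fun p : Wsp m F × Fin k =>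
      (⟨(φ (pt p.1) (hpP p.1) (⟨p.1, hpA p.1⟩, p.2)).1, by
        rw [Z0_eq_of_mem (φ (pt p.1) (hpP p.1) (⟨p.1, hpA p.1⟩, p.2)).2]
        exact hpP p.1⟩ : {x : Ω // P (Z0 m F x)})) := by
    rintro ⟨y, i⟩ ⟨y', i'⟩ e
    have e' : (φ (pt y) (hpP y) (⟨y, hpA y⟩, i)).1 = (φ (pt y') (hpP y') (⟨y', hpA y'⟩, i')).1 :=
      congrArg Subtype.val e
    have hq : qo m F (r y) = qo m F (r y') := by
      rw [← hcan (r y), ← hcan (r y'), ← qo_eq (φ (pt y) (hpP y) (⟨y, hpA y⟩, i)).2,
        ← qo_eq (φ (pt y') (hpP y') (⟨y', hpA y'⟩, i')).2, e']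
    have hp : pt y = pt y' := congrArg can hq
    have key : ∀ (a b : Ω) (ha : P (Z0 m F a)) (hb : P (Z0 m F b)) (hya : y ∈ An m χ a)
        (hyb : y' ∈ An m χ b), a = b → (φ a ha (⟨y, hya⟩, i)).1 = (φ b hb (⟨y', hyb⟩, i')).1 →
        (y, i) = (y', i') := by
      rintro a b ha hb hya hyb rfl h
      have := hφ a ha (Subtype.ext h)
      simp only [Prod.mk.injEq, Subtype.mk.injEq] at this
      rw [this.1, this.2]
    exact key _ _ _ _ _ _ hp e'
  have h := Nat.card_le_card_of_injective _ hinj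
  rw [Nat.card_prod, Nat.card_fin, card_Wsp, mul_comm] at h
  exact h

variable (hF : Nat.card F = 2) [MulAction.IsPretransitive (symplecticGroup (Fin m) F) Ω]

omit [Finite Ω] in
theorem exists_moved (hne : 1 < Nat.card Ω) (x : Ω) :
    ∃ u : Fin m ⊕ Fin m → F, ∃ c : F, tv u c • x ≠ x := by
  by_contra hcon
  push Not at hcon
  have hle : transvectionSubgroup m F ≤ MulAction.stabilizer (symplecticGroup (Fin m) F) x :=
    (Subgroup.closure_le _).2 fun g hg => by
      obtain ⟨u, c, h⟩ := hg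
      rw [show g = tv u c from Subtype.ext h]
      exact hcon u c
  rw [transvectionSubgroup_eq_top] at hle
  have : Subsingleton Ω := ⟨fun a b => by
    obtain ⟨g, rfl⟩ := MulAction.exists_smul_eq (symplecticGroup (Fin m) F) x a
    obtain ⟨h, rfl⟩ := MulAction.exists_smul_eq (symplecticGroup (Fin m) F) x b
    rw [hle (Subgroup.mem_top g), hle (Subgroup.mem_top h)]⟩
  rw [Nat.card_of_subsingleton x] at hne
  omega

include hF in
omit [Finite Ω] in
theorem exists_moved' (hne : 1 < Nat.card Ω) (x : Ω) :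
    ∃ u : Fin m ⊕ Fin m → F, tv u (1 : F) • x ≠ x := by
  obtain ⟨u, c, h⟩ := exists_moved (F := F) (m := m) hne x
  rcases eq_zero_or_one hF c with rfl | rfl
  · exact absurd (by rw [tv_zero, one_smul]) h
  · exact ⟨u, h⟩

include hF in
theorem Rb_eq_top (hm : 3 ≤ m) (hne : 1 < Nat.card Ω)
    (hlt : Nat.card Ω < 2 ^ (m - 1) * (2 ^ m - 1)) (x : Ω) : Rb m F x = ⊤ := by
  classical
  have : Fintype F := Fintype.ofFinite F
  have hm1 : m = (m - 1) + 1 := by omega
  set N := 2 ^ (m - 1) with hN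
  have h2m : 2 ^ m = 2 * N := by
    conv_lhs => rw [hm1]
    rw [pow_succ, mul_comm]
  have hN2 : 2 ^ (2 * (m - 1)) = N * N := by rw [hN, ← pow_add, two_mul]
  have hd : Nat.card Ω + N < 2 * (N * N) := by
    have h4 : 1 ≤ 2 * N := by rw [← h2m]; exact Nat.one_le_two_pow
    rw [h2m, Nat.mul_sub, mul_one, mul_left_comm] at hlt
    have : N ≤ 2 * (N * N) := le_trans (Nat.le_mul_self N) (by omega)
    omega
  obtain ⟨χ, hχ⟩ : ∃ χ : AddChar F ℂ, χ ≠ 1 := by
    refine ⟨{ toFun := fun t => ((sgn t : ℤ) : ℂ)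
              map_zero_eq_one' := by simp [sgn]
              map_add_eq_mul' := fun a b => by rw [sgn_add hF, Int.cast_mul] }, fun h => ?_⟩
    have := DFunLike.congr_fun h (1 : F)
    simp [sgn] at this
    norm_num at this
  have hk : ∀ ω : Ω, Z0 m F ω ≠ ⊤ → 2 ≤ Nat.card (F ⧸ Z0 m F ω) := by
    intro ω h
    rw [← AddSubgroup.index_eq_card]
    have h1 : (Z0 m F ω).index ≠ 1 := fun h' => h (AddSubgroup.index_eq_one.1 h')
    have h0 : (Z0 m F ω).index ≠ 0 := AddSubgroup.index_ne_zero_of_finite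
    omega
  -- moved points have full projection
  have hmov : ∀ ω : Ω, Z0 m F ω ≠ ⊤ → Rb m F ω = ⊤ := by
    intro ω hω
    by_contra hR
    have h := card_family hχ (P := fun Z => Z ≠ ⊤) (k := 2) hk hω hR
    rw [hF, hN2] at h
    have h' : Nat.card {y : Ω // Z0 m F y ≠ ⊤} ≤ Nat.card Ω :=
      Nat.card_le_card_of_injective _ Subtype.val_injective
    omega
  by_contra hR
  have hZ : Z0 m F x = ⊤ := by
    by_contra h
    exact hR (hmov x h)
  have hfix := card_family hχ (P := fun Z => Z = ⊤) (k := 1)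
    (fun ω _ => Nat.card_pos) hZ hR
  rw [one_mul, hF, hN2] at hfix
  -- a moved point
  obtain ⟨x₁, hx₁⟩ : ∃ x₁ : Ω, Z0 m F x₁ ≠ ⊤ := by
    obtain ⟨u, hu⟩ := exists_moved' (m := m) hF hne x
    have hu0 : u ≠ 0 := fun h => hu (by
      rw [h, show tv (0 : Fin m ⊕ Fin m → F) (1 : F) = 1 from
        group_ext fun y => by simp [tv_smul, form_zero_right], one_smul])
    obtain ⟨g, hg⟩ := exists_smul_eq_of_ne_zero hu0 (ev_ne_zero (F := F) (m := m))
    refine ⟨g • x, fun h => hu ?_⟩
    have h1 : tv (ev m F) (1 : F) • g • x = g • x :=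
      mem_Z0_iff_tv.1 (h ▸ AddSubgroup.mem_top _)
    rw [← hg, ← tv_conj, mul_smul, mul_smul, inv_smul_smul] at h1
    exact smul_left_cancel g h1
  have hR₁ := hmov x₁ hx₁
  have hq : ∀ a : Wsp m F, ∃ z : F, xe a z • x₁ = x₁ := fun a =>
    mem_Rb.1 (hR₁ ▸ AddSubgroup.mem_top a)
  choose q hq using hq
  have huniq : ∀ a z, xe a z • x₁ = x₁ → z = q a := by
    intro a z hz
    by_contra h
    have h' := sub_mem_Z0 (ω := x₁) hz (hq a)
    rw [eq_one_of_ne_zero hF (sub_ne_zero.2 h)] at h'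
    refine hx₁ (eq_top_iff.2 fun y _ => ?_)
    rcases eq_zero_or_one hF y with rfl | rfl
    · exact zero_mem _
    · exact h'
  have hpol : ∀ a b : Wsp m F, q (a + b) = q a + q b + sympForm m F a.1 b.1 := fun a b => by
    rw [form_swap b.1 a.1, neg_eq_self hF]
    exact (huniq _ _ (by rw [← xe_mul, mul_smul, hq, hq])).symm
  have hadd : ∀ a b c : Wsp m F,
      sympForm m F (a + b).1 c.1 = sympForm m F a.1 c.1 + sympForm m F b.1 c.1 :=
    fun a b c => by rw [Submodule.coe_add, form_add_left]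
  have hnd : ∀ c : Wsp m F, (∀ a : Wsp m F, sympForm m F a.1 c.1 = 0) → c = 0 := fun c h =>
    eq_zero_of_forall_form_W fun a => by rw [form_swap, h a, neg_zero]
  have : Fintype (Wsp m F) := Fintype.ofFinite _
  have hcard : Fintype.card (Wsp m F) = N ^ 2 := by
    rw [← Nat.card_eq_fintype_card, card_Wsp, hF, hN2, sq]
  have hz2 := two_mul_zeros (F := F) (q := q)
  have hinj : Function.Injective (fun p : {c : Wsp m F // q c = 0} × F =>
      (⟨tv p.1.1.1 1 • xe (0 : Wsp m F) p.2 • x₁, fun h => hx₁ (by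
        have hL : Lev (tv p.1.1.1 1 : symplecticGroup (Fin m) F) 1 :=
          lev_of_mem (tv_mem_W p.1.1.2 1)
        rw [← Z0_xe_smul (0 : Wsp m F) p.2]
        refine eq_top_iff.2 fun z _ => (mem_Z0_lev hL).1 ?_
        rw [h]
        exact AddSubgroup.mem_top _)⟩ : {y : Ω // Z0 m F y ≠ ⊤})) := by
    rintro ⟨⟨c, hc⟩, s⟩ ⟨⟨c', hc'⟩, s'⟩ e
    have e' : tv c.1 (1 : F) • xe (0 : Wsp m F) s • x₁ =
        tv c'.1 (1 : F) • xe (0 : Wsp m F) s' • x₁ := congrArg Subtype.val e
    -- the level at the image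
    have him : ∀ (c : Wsp m F) (_ : q c = 0) (s : F) (b : Wsp m F),
        xe b (q b + sympForm m F b.1 c.1) • tv c.1 (1 : F) • xe (0 : Wsp m F) s • x₁ =
          tv c.1 (1 : F) • xe (0 : Wsp m F) s • x₁ := by
      intro c hc s b
      have hL : Lev (tv c.1 1 : symplecticGroup (Fin m) F) 1 := lev_of_mem (tv_mem_W c.2 1)
      set a : Wsp m F := b + sympForm m F b.1 c.1 • c with ha
      have hact : hL.act a = b := by
        refine Subtype.ext (funext fun i => ?_)
        rw [hL.act_coe, tv_smul, ha]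
        simp only [Submodule.coe_add, Submodule.coe_smul, form_add_left, form_smul_left, form_self,
          mul_zero, add_zero, one_mul, Pi.add_apply, Pi.smul_apply, smul_eq_mul]
        linear_combination (sympForm m F b.1 c.1 * c.1 i) * two_eq_zero hF
      have hqa : q a = q b + sympForm m F b.1 c.1 := by
        rw [ha]
        rcases eq_zero_or_one hF (sympForm m F b.1 c.1) with h | h
        · rw [h, zero_smul, add_zero, add_zero]
        · rw [h, one_smul, hpol, hc, h, add_zero]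
      have hfix : xe a (q a) • xe (0 : Wsp m F) s • x₁ = xe (0 : Wsp m F) s • x₁ := by
        rw [← mul_smul, show xe a (q a) * xe (0 : Wsp m F) s = xe (0 : Wsp m F) s * xe a (q a) by
          rw [xe_swap (0 : Wsp m F) a]; simp [form_zero_left], mul_smul, hq]
      have hh := lev_mul_xe hL a (q a)
      rw [one_smul, hact, one_pow, one_mul, hqa] at hh
      rw [← mul_smul (xe b _), ← hh, mul_smul, ← hqa, hfix]
    have hcc : c = c' := by
      refine sub_eq_zero.1 (hnd _ fun b => ?_)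
      have h1 := him c hc s b
      have h2 := him c' hc' s' b
      rw [← e'] at h2
      have h3 := sub_mem_Z0 (ω := tv c.1 (1 : F) • xe (0 : Wsp m F) s • x₁) h1 h2
      by_contra hne'
      have h4 : q b + sympForm m F b.1 c.1 - (q b + sympForm m F b.1 c'.1) = 1 := by
        rw [add_sub_add_left_eq_sub, ← form_sub_right, ← Submodule.coe_sub]
        exact eq_one_of_ne_zero hF hne'
      rw [h4] at h3
      have hL : Lev (tv c.1 1 : symplecticGroup (Fin m) F) 1 := lev_of_mem (tv_mem_W c.2 1)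
      have h5 := (mem_Z0_lev hL).1 (show (1 : F) ^ 2 * 1 ∈ _ by rw [one_pow, one_mul]; exact h3)
      rw [Z0_xe_smul] at h5
      refine hx₁ (eq_top_iff.2 fun y _ => ?_)
      rcases eq_zero_or_one hF y with rfl | rfl
      · exact zero_mem _
      · exact h5
    subst hcc
    have hs : s = s' := by
      by_contra hss
      have e2 := smul_left_cancel (tv c.1 (1 : F)) e'
      have h5 : s - s' ∈ Z0 m F x₁ := by
        refine mem_Z0.2 ((smul_left_cancel_iff (xe (0 : Wsp m F) s')).1 ?_)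
        rw [← mul_smul, xe_zero_mul, add_sub_cancel, e2]
      rw [eq_one_of_ne_zero hF (sub_ne_zero.2 hss)] at h5
      refine hx₁ (eq_top_iff.2 fun y _ => ?_)
      rcases eq_zero_or_one hF y with rfl | rfl
      · exact zero_mem _
      · exact h5
    rw [hs]
  have hM := Nat.card_le_card_of_injective _ hinj
  rw [Nat.card_prod, hF] at hM
  have htot : Nat.card {y : Ω // Z0 m F y = ⊤} + Nat.card {y : Ω // Z0 m F y ≠ ⊤} = Nat.card Ω := by
    rw [← Nat.card_sum]
    exact Nat.card_congr (Equiv.sumCompl _)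
  rw [hcard] at hz2
  rcases sum_eq hF hadd hpol hnd N hcard with hS | hS <;> rw [hS] at hz2 <;> push_cast at hz2 <;>
    nlinarith

include hF in
/-- A transitive action of `Sp_{2m}(2)` of degree below `2^{m-1}(2^m-1)` is trivial. -/
theorem card_ge (hm : 3 ≤ m) (hne : 1 < Nat.card Ω) :
    2 ^ (m - 1) * (2 ^ m - 1) ≤ Nat.card Ω := by
  by_contra hlt
  push Not at hlt
  have hRb : ∀ y : Ω, Rb m F y = ⊤ := fun y => Rb_eq_top hF hm hne hlt y
  have hgen : ∀ (y : Ω) (u a : Fin m ⊕ Fin m → F), u ≠ 0 → sympForm m F a u = 0 →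
      ∃ z : F, sx u a z • y = y := by
    intro y u a hu ha
    obtain ⟨g, hg⟩ := exists_smul_eq_of_ne_zero (ev_ne_zero (F := F) (m := m)) hu
    have ha' : sympForm m F (g⁻¹ • a) (ev m F) = 0 := by
      rw [← form_smul_smul g, smul_inv_smul, hg, ha]
    obtain ⟨z, hz⟩ := mem_Rb.1 (hRb (g⁻¹ • y) ▸ AddSubgroup.mem_top (wproj (g⁻¹ • a)))
    have hdec := decomp (g⁻¹ • a)
    rw [ha', zero_smul, sub_zero] at hdec
    have hsx : xe (wproj (g⁻¹ • a)) z = sx (ev m F) (g⁻¹ • a) z := by
      refine group_ext fun v => ?_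
      rw [xe, sx_smul (form_W_ev _), sx_smul ha']
      conv_rhs => rw [hdec]
      simp only [form_add_right, form_smul_right]
      funext i
      simp only [Pi.add_apply, Pi.smul_apply, smul_eq_mul]
      linear_combination (-(sympForm m F (g⁻¹ • a) (ev' m F) * sympForm m F v (ev m F) *
        ev m F i)) * two_eq_zero hF
    refine ⟨z, ?_⟩
    have h := sx_conj g (ev m F) (g⁻¹ • a) z
    rw [hg, smul_inv_smul] at h
    rw [← h, mul_smul, mul_smul, ← hsx, hz, smul_inv_smul]
  have : Nonempty Ω := Finite.card_pos_iff.1 (by omega)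
  obtain ⟨x⟩ := this
  obtain ⟨u, hu⟩ := exists_moved' (m := m) hF hne x
  exact false_of_gen hF (hgen x) ⟨u, hu⟩ hm

end CfsgLib.MinIndexPSp.Two
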