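import Cfsg.Agent.Lib.MinIndexPSp.Basic

/-!
Quadratic forms over the field with two elements with a given non-degenerate polar form: the sum of
signs and the number of zeros.
-/

set_option autoImplicit false
set_option linter.unusedSectionVars false

namespace CfsgLib.MinIndexPSp.Two

variable {F : Type*} [Field F] [Finite F] (hF : Nat.card F = 2)

include hF in
theorem eq_one_of_ne_zero {x : F} (h : x ≠ 0) : x = 1 := by
  have : Fintype F := Fintype.ofFinite F
  classical
  by_contra h1
  have h3 : ({0, 1, x} : Finset F).card = 3 := by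
    rw [Finset.card_eq_three]
    exact ⟨0, 1, x, zero_ne_one, h.symm, fun e => h1 e.symm, rfl⟩
  have := Finset.card_le_univ ({0, 1, x} : Finset F)
  rw [h3, ← Nat.card_eq_fintype_card, hF] at this
  omega

include hF in
theorem eq_zero_or_one (x : F) : x = 0 ∨ x = 1 :=
  or_iff_not_imp_left.2 fun h => eq_one_of_ne_zero hF h

include hF in
theorem two_eq_zero : (2 : F) = 0 := by
  rcases eq_zero_or_one hF (2 : F) with h | h
  · exact h
  · exact absurd (show (1 : F) = 0 by linear_combination h) one_ne_zero

include hF in
theorem add_self_zero (x : F) : x + x = 0 := by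
  linear_combination x * two_eq_zero hF

include hF in
theorem neg_eq_self (x : F) : -x = x := by
  linear_combination (-x) * two_eq_zero hF

open Classical in
/-- The sign attached to an element of the field with two elements. -/
noncomputable def sgn (x : F) : ℤ := if x = 0 then 1 else -1

include hF in
theorem sgn_add (x y : F) : sgn (x + y) = sgn x * sgn y := by
  rcases eq_zero_or_one hF x with rfl | rfl <;> rcases eq_zero_or_one hF y with rfl | rfl <;>
    simp [sgn, add_self_zero hF]

variable {V : Type*} [AddCommGroup V] {f : V → V → F} {q : V → F}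
  (hadd : ∀ a b c, f (a + b) c = f a c + f b c) (hq : ∀ a b, q (a + b) = q a + q b + f a b)

include hadd hq in
theorem form_zero (a : V) : q 0 = 0 ∧ f a 0 = 0 := by
  have h1 : f 0 0 = 0 := by
    have := hadd 0 0 0
    rw [add_zero] at this
    linear_combination (-1 : F) * this
  have h2 : q 0 = 0 := by
    have := hq 0 0
    rw [add_zero, h1] at this
    linear_combination (-1 : F) * this
  refine ⟨h2, ?_⟩
  have := hq a 0
  rw [add_zero, h2] at this
  linear_combination (-1 : F) * this

variable [Fintype V]

include hF hq in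
/-- Shifting by a linear form multiplies the sum of signs by a sign. -/
theorem sum_shift (c : V) :
    ∑ a, sgn (q a + f a c) = sgn (q c) * ∑ a, sgn (q a) := by
  rw [Finset.mul_sum]
  conv_rhs => rw [← Equiv.sum_comp (Equiv.addRight c)]
  refine Finset.sum_congr rfl fun a _ => ?_
  rw [← sgn_add hF, Equiv.coe_addRight, hq]
  congr 1
  linear_combination (-(q c)) * two_eq_zero hF

variable (hnd : ∀ c, (∀ a, f a c = 0) → c = 0)

include hF hadd hq hnd in
/-- The square of the sum of signs is the number of vectors. -/
theorem sum_sq : (∑ a, sgn (q a)) ^ 2 = (Fintype.card V : ℤ) := by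
  classical
  have hcol : ∀ c, ∑ a, sgn (f a c) = if c = 0 then (Fintype.card V : ℤ) else 0 := by
    intro c
    split_ifs with hc
    · subst hc
      simp [sgn, (form_zero hadd hq _).2]
    · obtain ⟨a₀, ha₀⟩ : ∃ a₀, f a₀ c ≠ 0 := by
        by_contra h
        push Not at h
        exact hc (hnd c h)
      have h : ∑ a, sgn (f a c) = -∑ a, sgn (f a c) := by
        conv_lhs => rw [← Equiv.sum_comp (Equiv.addRight a₀)]
        rw [← Finset.sum_neg_distrib]
        refine Finset.sum_congr rfl fun a _ => ?_
        rw [Equiv.coe_addRight, hadd, sgn_add hF]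
        simp [sgn, ha₀]
      omega
  calc (∑ a, sgn (q a)) ^ 2 = ∑ a, sgn (q a) * ∑ b, sgn (q b) := by rw [sq, Finset.sum_mul]
    _ = ∑ a, ∑ c, sgn (q c) * sgn (f a c) := by
      refine Finset.sum_congr rfl fun a _ => ?_
      rw [Finset.mul_sum, ← Equiv.sum_comp (Equiv.addLeft a)]
      refine Finset.sum_congr rfl fun c _ => ?_
      rw [Equiv.coe_addLeft, hq, ← sgn_add hF, ← sgn_add hF]
      congr 1
      linear_combination q a * two_eq_zero hF
    _ = ∑ c, sgn (q c) * ∑ a, sgn (f a c) := by
      rw [Finset.sum_comm]
      simp only [Finset.mul_sum]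
    _ = (Fintype.card V : ℤ) := by
      simp only [hcol, mul_ite, mul_zero, Finset.sum_ite_eq', Finset.mem_univ, if_true]
      simp [sgn, (form_zero hadd hq 0).1]

theorem two_mul_zeros : 2 * (Nat.card {a : V // q a = 0} : ℤ) =
    Fintype.card V + ∑ a, sgn (q a) := by
  classical
  rw [Nat.card_eq_fintype_card, Fintype.card_subtype]
  unfold sgn
  rw [Finset.sum_ite]
  have h := Finset.card_filter_add_card_filter_not (s := (Finset.univ : Finset V)) (fun a => q a = 0)
  rw [Finset.card_univ] at h
  simp only [Finset.sum_const, nsmul_eq_mul, mul_one, mul_neg_one]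
  rw [← h]
  push_cast
  ring

include hF hadd hq hnd in
/-- The sum of signs is one of the two square roots. -/
theorem sum_eq (N : ℕ) (hV : Fintype.card V = N ^ 2) :
    ∑ a, sgn (q a) = (N : ℤ) ∨ ∑ a, sgn (q a) = -(N : ℤ) := by
  refine sq_eq_sq_iff_eq_or_eq_neg.1 ?_
  rw [sum_sq hF hadd hq hnd, hV]
  push_cast
  rfl

end CfsgLib.MinIndexPSp.Two
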