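import Cfsg.Agent.Lib.MinIndexPSp.Stab
import Cfsg.Agent.Lib.MinIndexPSp.Moved
import Cfsg.Agent.Lib.MinIndexPSp.TwoSum

/-!
An action of `Sp_{2m}(2)` in which every root group of a point stabiliser projects onto the
whole perpendicular space is trivial.
-/

set_option autoImplicit false
set_option linter.unusedSectionVars false

namespace CfsgLib.MinIndexPSp.Two

open Matrix Cfsg CfsgLib.Linear.Symp

variable {F : Type*} [Field F] [Finite F] {m : ℕ} (hF : Nat.card F = 2)
variable {Ω : Type*} [MulAction (symplecticGroup (Fin m) F) Ω]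

include hF in
theorem sx_symm {u a : (Fin m ⊕ Fin m → F)} (h : sympForm m F a u = 0) : sx u a 0 = sx a u 0 := by
  refine group_ext fun v => ?_
  rw [sx_smul h, sx_smul (by rw [form_swap, h, neg_zero])]
  module

include hF in
theorem sx_succ {u a : (Fin m ⊕ Fin m → F)} (h : sympForm m F a u = 0) : sx u a 0 = sx u a 1 * tv u 1 := by
  rw [← sx_zero u 1, sx_mul h (form_zero_left _), add_zero, form_zero_left, add_zero,
    add_self_zero hF]

include hF in
theorem sx_succ' {u a : (Fin m ⊕ Fin m → F)} (h : sympForm m F a u = 0) : sx u a 1 = sx u a 0 * tv u 1 := by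
  rw [← sx_zero u 1, sx_mul h (form_zero_left _), add_zero, form_zero_left, add_zero, zero_add]

include hF in
theorem sx_one_eq (u a : (Fin m ⊕ Fin m → F)) : sx u a 1 = tv (u + a) 1 * tv a 1 := by
  rw [sx, sub_self, tv_zero, mul_one, neg_eq_self hF]

variable {x : Ω} (hgen : ∀ (u a : (Fin m ⊕ Fin m → F)), u ≠ 0 → sympForm m F a u = 0 →
  ∃ z : F, sx u a z • x = x)

/-- The transvection of `u` fixes `x`. -/
abbrev Fx (x : Ω) (u : (Fin m ⊕ Fin m → F)) : Prop := tv u (1 : F) • x = x

theorem Fx.of_stab {u : (Fin m ⊕ Fin m → F)} (h : Fx x u) {g : symplecticGroup (Fin m) F} (hg : g • x = x) :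
    Fx x (g • u) := by
  rw [Fx, ← tv_conj, mul_smul, mul_smul, inv_smul_eq_iff.2 hg.symm, h, hg]

include hF hgen in
/-- Two fixed non-orthogonal transvections force all transvections to fix `x`. -/
theorem fx_all {e v : (Fin m ⊕ Fin m → F)} (he : Fx x e) (hv : Fx x v) (hev : sympForm m F v e = 1) :
    ∀ w : Fin m ⊕ Fin m → F, Fx x w := by
  have he0 : e ≠ 0 := fun h => by simp [h, form_zero_right] at hev
  have h1 : ∀ w : Fin m ⊕ Fin m → F, sympForm m F w e = 1 → Fx x w := by
    intro w hw
    have ha : sympForm m F (w + v) e = 0 := by rw [form_add_left, hw, hev, add_self_zero hF]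
    obtain ⟨z, hz⟩ := hgen e (w + v) he0 ha
    have hfix : sx e (w + v) (sympForm m F v (w + v)) • x = x := by
      have hc : ∀ y : F, sx e (w + v) y • x = x := by
        intro y
        have : sx e (w + v) y = tv e (y - z) * sx e (w + v) z := by
          rw [← sx_zero e (y - z), sx_mul (form_zero_left _) ha, zero_add, form_zero_right,
            add_zero, sub_add_cancel]
        rw [this, mul_smul, hz]
        rcases eq_zero_or_one hF (y - z) with h | h <;> rw [h]
        · rw [tv_zero, one_smul]
        · exact he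
      exact hc _
    have himg : sx e (w + v) (sympForm m F v (w + v)) • v = w := by
      rw [sx_smul ha, hev, one_smul, mul_one, add_self_zero hF, zero_smul, add_zero]
      ext i
      simp only [Pi.add_apply]
      linear_combination v i * two_eq_zero hF
    rw [← himg]
    exact hv.of_stab hfix
  intro w
  by_cases hw : w = 0
  · subst hw
    have : tv (0 : (Fin m ⊕ Fin m → F)) (1 : F) = 1 := group_ext fun y => by simp [tv_smul, form_zero_right]
    rw [Fx, this, one_smul]
  rcases eq_zero_or_one hF (sympForm m F w e) with h | h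
  swap
  · exact h1 w h
  by_cases hwe : w = e
  · exact hwe ▸ he
  -- a vector pairing to one with both
  obtain ⟨u, hue, huw⟩ : ∃ u, sympForm m F u e = 1 ∧ sympForm m F u w = 1 := by
    by_cases hvw : sympForm m F v w = 0
    · obtain ⟨t, ht⟩ : ∃ t, sympForm m F t w = 1 ∧ sympForm m F t e = 0 := by
        by_contra hcon
        push Not at hcon
        have hall : ∀ t, sympForm m F t w = sympForm m F t e := by
          intro t
          rcases eq_zero_or_one hF (sympForm m F t w) with h' | h'
          · rcases eq_zero_or_one hF (sympForm m F t e) with h'' | h''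
            · rw [h', h'']
            · exfalso
              obtain ⟨y, hy⟩ := exists_form_ne_zero hw
              rw [form_swap, neg_ne_zero] at hy
              have hy1 := eq_one_of_ne_zero hF hy
              have hye := eq_one_of_ne_zero hF (hcon y hy1)
              exact hcon (y + t + v) (by rw [form_add_left, form_add_left, hy1, h', hvw]; simp)
                (by
                  rw [form_add_left, form_add_left, hye, h'', hev, add_self_zero hF, zero_add]
                  exact absurd (hcon (y + t) (by rw [form_add_left, hy1, h', add_zero]))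
                    (by rw [form_add_left, hye, h'', add_self_zero hF]; simp))
          · rw [h', eq_one_of_ne_zero hF (hcon t h')]
        exact one_ne_zero (α := F) (hev.symm.trans ((hall v).symm.trans hvw))
      exact ⟨v + t, by rw [form_add_left, hev, ht.2, add_zero],
        by rw [form_add_left, hvw, ht.1, zero_add]⟩
    · exact ⟨v, hev, eq_one_of_ne_zero hF hvw⟩
  have h2 : Fx x (u + w) := h1 _ (by rw [form_add_left, hue, h, add_zero])
  have h3 : tv u (1 : F) • (u + w) = w := by
    rw [tv_smul, form_add_left, form_self, zero_add, form_swap u w, huw, neg_eq_self hF, one_mul,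
      one_smul]
    ext i
    simp only [Pi.add_apply]
    linear_combination u i * two_eq_zero hF
  exact h3 ▸ h2.of_stab (h1 u hue)

variable (hne : ∃ u : (Fin m ⊕ Fin m → F), ¬ Fx x u)

include hF hgen hne in
/-- No transvection fixes `x`. -/
theorem no_fixed [NeZero m] (hm : 2 ≤ m) {e : (Fin m ⊕ Fin m → F)} (he0 : e ≠ 0) : ¬ Fx x e := by
  intro he
  obtain ⟨u₀, hu₀⟩ := hne
  obtain ⟨v, hv⟩ := exists_form_ne_zero he0
  have hev : sympForm m F e v = 1 := eq_one_of_ne_zero hF hv
  have hv0 : v ≠ 0 := fun h => by simp [h, form_zero_right] at hev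
  have orth : ∀ {y y' : (Fin m ⊕ Fin m → F)}, Fx x y → Fx x y' → sympForm m F y' y = 0 := by
    intro y y' hy hy'
    by_contra h
    exact hu₀ (fx_all hF hgen hy hy' (eq_one_of_ne_zero hF h) u₀)
  -- the level of `a` is zero
  have key : ∀ a, sympForm m F a e = 0 → sympForm m F a v = 0 → ∀ s, sx v a s • x = x → s = 0 := by
    intro a hae hav s hs
    have h := orth he (he.of_stab hs)
    rw [sx_smul hav, hev, form_add_left, form_add_left, form_self, form_smul_left, form_smul_left,
      hae, mul_zero, form_swap a e, hae, neg_zero, zero_add, mul_one, form_swap e v, hev,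
      neg_eq_self hF, mul_one] at h
    simpa using h
  obtain ⟨g, hg, hg'⟩ := exists_smul_pair (form_ev_ev' (F := F) (m := m)) hev
  obtain ⟨a, ha⟩ := exists_W_ne_zero (F := F) (m := m) hm
  obtain ⟨b, hb⟩ := exists_form_W_eq ha 1
  have hperp : ∀ c : Wsp m F, sympForm m F (g • c.1) e = 0 ∧ sympForm m F (g • c.1) v = 0 :=
    fun c => ⟨by rw [← hg, form_smul_smul, form_W_ev], by rw [← hg', form_smul_smul, form_W_ev']⟩
  obtain ⟨ha1, ha2⟩ := hperp a
  obtain ⟨hb1, hb2⟩ := hperp b
  obtain ⟨s, hs⟩ := hgen v _ hv0 ha2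
  obtain ⟨t, ht⟩ := hgen v _ hv0 hb2
  have h1 := key _ ha1 ha2 s hs
  have h2 := key _ hb1 hb2 t ht
  subst h1 h2
  have h3 : (sx v (g • b.1) 0 * sx v (g • a.1) 0) • x = x := by rw [mul_smul, hs, ht]
  rw [sx_mul hb2 ha2] at h3
  have h4 := key _ (by rw [form_add_left, hb1, ha1, add_zero])
    (by rw [form_add_left, hb2, ha2, add_zero]) _ h3
  rw [form_smul_smul, hb, zero_add, zero_add] at h4
  exact one_ne_zero h4

section

variable (hT : ∀ u : (Fin m ⊕ Fin m → F), u ≠ 0 → ¬ Fx x u)

include hF hgen hT in
/-- Orthogonal vectors of level one move `x` in the same way. -/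
theorem tv_eq_of_one {e u : (Fin m ⊕ Fin m → F)} (he : e ≠ 0) (hu : u ≠ 0) (h : sympForm m F u e = 0)
    (h1 : sx e u 1 • x = x) :
    tv u (1 : F) • x = tv e 1 • x ∧ tv (e + u) (1 : F) • x = tv e 1 • x := by
  have h' : sympForm m F e u = 0 := by rw [form_swap, h, neg_zero]
  obtain ⟨s, hs⟩ := hgen u e hu h'
  have h0 : sx e u 0 • tv e (1 : F) • x = x := by rw [← mul_smul, ← sx_succ' hF h, h1]
  rcases eq_zero_or_one hF s with rfl | rfl
  · refine absurd (smul_left_cancel (sx e u 0) ?_) (hT e he)
    rw [h0, sx_symm hF h, hs]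
  · have hu' : sx e u 0 • tv u (1 : F) • x = x := by
      rw [sx_symm hF h, ← mul_smul, ← sx_succ' hF h', hs]
    have heq : tv u (1 : F) • x = tv e 1 • x := smul_left_cancel (sx e u 0) (hu'.trans h0.symm)
    refine ⟨heq, ?_⟩
    rw [← heq]
    have h5 := h1
    rw [sx_one_eq hF, mul_smul] at h5
    conv_lhs => rw [← h5]
    rw [← mul_smul, tv_add, add_self_zero hF, tv_zero, one_smul]

include hF hT in
/-- Vectors moving `x` in the same way have level one. -/
theorem not_zero_of_eq {e a : (Fin m ⊕ Fin m → F)} (hae : a ≠ e) (h : sympForm m F a e = 0)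
    (heq : tv a (1 : F) • x = tv e 1 • x) : sx e a 0 • x ≠ x := by
  intro h0
  rw [sx_succ hF h, sx_one_eq hF, mul_smul, mul_smul, ← heq, ← mul_smul (tv a 1) (tv a 1), tv_add,
    add_self_zero hF, tv_zero, one_smul] at h0
  refine hT (e + a) (fun h' => hae ?_) h0
  ext i
  have := congrFun h' i
  simp only [Pi.add_apply, Pi.zero_apply] at this
  linear_combination this - e i * two_eq_zero hF

include hF hgen hT in
theorem false_of_moved [NeZero m] (hm : 3 ≤ m) : False := by
  have he : ev m F ≠ 0 := ev_ne_zero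
  have lvl : ∀ a : Wsp m F, ∃ z : F, xe a z • x = x := fun a => hgen _ _ he (form_W_ev a)
  choose q hq using lvl
  have huniq : ∀ a z, xe a z • x = x → z = q a := by
    intro a z hz
    by_contra h
    have h' := sub_mem_Z0 (ω := x) hz (hq a)
    rw [eq_one_of_ne_zero hF (sub_ne_zero.2 h), mem_Z0_iff_tv] at h'
    exact hT _ he h'
  have hpol : ∀ a b : Wsp m F, q (a + b) = q a + q b + sympForm m F b.1 a.1 := fun a b =>
    (huniq _ _ (by rw [← xe_mul, mul_smul, hq, hq])).symm
  have hne_ev : ∀ a : Wsp m F, a.1 ≠ ev m F := fun a h => by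
    have := form_W_ev' a
    rw [h, form_ev_ev'] at this
    exact one_ne_zero this
  obtain ⟨u, hu⟩ : ∃ u, q u = 1 := by
    by_contra hcon
    push Not at hcon
    have h0 : ∀ a, q a = 0 := fun a => (eq_zero_or_one hF (q a)).resolve_right (hcon a)
    obtain ⟨a, ha⟩ := exists_W_ne_zero (F := F) (m := m) (by omega)
    obtain ⟨b, hb⟩ := exists_form_W_eq ha 1
    have := hpol b a
    rw [h0, h0, h0, hb] at this
    simp at this
  have hu0 : u ≠ 0 := fun h => by
    have := hpol 0 0
    rw [add_zero, ← h, hu, form_self] at this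
    rw [add_zero, add_self_zero hF] at this
    exact one_ne_zero this
  obtain ⟨w₀, hw₀, hw₀0, hw₀u⟩ : ∃ w : Wsp m F, sympForm m F w.1 u.1 = 0 ∧ w ≠ 0 ∧ w ≠ u := by
    by_contra hcon
    push Not at hcon
    obtain ⟨b₀, hb₀⟩ := exists_form_W_eq hu0 1
    rw [form_swap, neg_eq_self hF] at hb₀
    have : Fintype F := Fintype.ofFinite F
    have hmap : ∀ a : Wsp m F, a + sympForm m F a.1 u.1 • b₀ ∈ ({0, u} : Set (Wsp m F)) := by
      intro a
      by_cases h : a + sympForm m F a.1 u.1 • b₀ = 0
      · exact Or.inl h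
      · refine Or.inr (hcon _ ?_ h)
        rw [Submodule.coe_add, Submodule.coe_smul, form_add_left, form_smul_left, hb₀, mul_one,
          add_self_zero hF]
    have hle := Nat.card_le_card_of_injective
      (fun a : Wsp m F => (sympForm m F a.1 u.1, (⟨_, hmap a⟩ : ({0, u} : Set (Wsp m F)))))
      (fun a a' e => by
        obtain ⟨e1, e2⟩ := Prod.mk.injEq _ _ _ _ ▸ e
        have e3 := congrArg Subtype.val e2
        simp only [e1] at e3
        exact add_right_cancel e3)
    rw [card_Wsp, hF, Nat.card_prod, hF] at hle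
    have h2 : Nat.card ({0, u} : Set (Wsp m F)) ≤ 2 := by
      rw [Nat.card_coe_set_eq]
      exact (Set.ncard_insert_le _ _).trans (by rw [Set.ncard_singleton])
    have h16 : 2 ^ 4 ≤ 2 ^ (2 * (m - 1)) := Nat.pow_le_pow_right (by omega) (by omega)
    have := h16.trans (hle.trans (Nat.mul_le_mul_left 2 h2))
    omega
  obtain ⟨w, hw, hwf, hw0, hwu⟩ : ∃ w : Wsp m F, q w = 1 ∧ sympForm m F w.1 u.1 = 0 ∧ w ≠ 0 ∧
      w ≠ u := by
    rcases eq_zero_or_one hF (q w₀) with h | h
    · refine ⟨w₀ + u, ?_, ?_, fun e => hw₀u ?_, fun e => hw₀0 (by simpa using e)⟩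
      · rw [hpol, h, hu, form_swap w₀.1 u.1, hw₀, neg_zero, zero_add, add_zero]
      · rw [Submodule.coe_add, form_add_left, hw₀, form_self, add_zero]
      · refine Subtype.ext (funext fun i => ?_)
        have := congrFun (congrArg Subtype.val e) i
        simp only [Submodule.coe_add, Pi.add_apply, Submodule.coe_zero, Pi.zero_apply] at this
        linear_combination this - u.1 i * two_eq_zero hF
    · exact ⟨w₀, h, hw₀, hw₀0, hw₀u⟩
  have hu' : u.1 ≠ 0 := fun h => hu0 (Subtype.ext h)
  have hw' : w.1 ≠ 0 := fun h => hw0 (Subtype.ext h)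
  have eu := (tv_eq_of_one hF hgen hT he hu' (form_W_ev u)
    (by have := hq u; rwa [hu] at this)).1
  have ew := (tv_eq_of_one hF hgen hT he hw' (form_W_ev w)
    (by have := hq w; rwa [hw] at this)).1
  obtain ⟨s, hs⟩ := hgen u.1 w.1 hu' hwf
  rcases eq_zero_or_one hF s with rfl | rfl
  · exact not_zero_of_eq hF hT (fun h => hwu (Subtype.ext h)) hwf (ew.trans eu.symm) hs
  · have h3 := (tv_eq_of_one hF hgen hT hu' hw' hwf hs).2
    have huw : q (u + w) = 0 := by
      rw [hpol, hu, hw, hwf, add_zero, add_self_zero hF]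
    have h4 := hq (u + w)
    rw [huw] at h4
    exact not_zero_of_eq hF hT (hne_ev (u + w)) (form_W_ev (u + w))
      (h3.trans eu) h4

end

include hF hgen hne in
/-- A point moved by some transvection cannot have full stabilisers in all root groups. -/
theorem false_of_gen [NeZero m] (hm : 3 ≤ m) : False :=
  false_of_moved hF hgen (fun _ h => no_fixed hF hgen hne (by omega) h) hm

end CfsgLib.MinIndexPSp.Two
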